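import Cfsg.Agent.H580.Der.PspCls

/-!
# No prime is a union of two classes in `PSp_4(q)`, `q ≥ 5` (helper580, for S3502)
-/

set_option autoImplicit false

namespace Cfsg.Agent.H580.Der.Ntc

open Cfsg Cfsg.Geo
open Cfsg.Agent.H580.Der.PspCls Cfsg.Agent.H439.Der Cfsg.Agent.H374.Quad

variable {F : Type} [Field F] [Fintype F]

/-- **no prime divisor `v` of `|PSp_4(q)|` is `SCC`.** -/
theorem ntc (h5 : 5 ≤ Fintype.card F) : NTC (PSp 2 F) := by
  intro v hv hvd
  obtain ⟨p, hpc⟩ := CharP.exists F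
  obtain ⟨n, hp, hn1, hn⟩ : ∃ n : ℕ, p.Prime ∧ 1 ≤ n ∧ Fintype.card F = p ^ n := by
    obtain ⟨n, hp, hn⟩ := FiniteField.card F p
    exact ⟨n, hp, n.pos, hn⟩
  have hpf := Fact.mk hp
  have hvf := Fact.mk hv
  have hspec := Cfsg.Agent.H374.SpFour.exists_iff (F := F) (p := p) (n := n) (by omega) hn (by rw [← hn]; omega)
  rw [← hn] at hspec
  obtain ⟨q, hq⟩ : ∃ q, q = Fintype.card F := ⟨_, rfl⟩
  rw [← hq] at hspec h5
  have hp2 := hp.two_le
  have hpq : p ∣ q := by rw [hq, hn]; exact dvd_pow_self p (by omega)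
  have hpq1 : ¬ p ∣ q + 1 := fun h => by
    have := (Nat.dvd_add_right hpq).1 h
    have := Nat.le_of_dvd (by norm_num) this
    omega
  have hpq1' : ¬ p ∣ q - 1 := fun h => by
    have h1 := Nat.dvd_sub hpq h
    rw [show q - (q - 1) = 1 by omega] at h1
    have := Nat.le_of_dvd (by norm_num) h1
    omega
  have hT := dvd_torus (q := q) (by omega)
  -- the torus of order `(q² - 1) / d`
  set N := (q ^ 2 - 1) / Nat.gcd 2 (q - 1) with hN
  have hsq : q ^ 2 - 1 = (q - 1) * (q + 1) := sq_sub_one q (by omega)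
  have hN2 : N ∣ (q - 1) * (q + 1) := by
    rw [← hsq]
    refine Nat.div_dvd_of_dvd ?_
    rcases Nat.even_or_odd q with he | ho
    · rw [gcd_of_even he (by omega)]
      exact one_dvd _
    · rw [gcd_of_odd ho]
      obtain ⟨k, hk⟩ := ho
      rw [hsq, hk]
      exact ⟨k * (2 * k + 2), by rw [show 2 * k + 1 - 1 = 2 * k by omega]; ring⟩
  have hNbig : 2 * (q + 1) ≤ N := by
    have h1 : 2 * ((q + 1) * 2) ≤ (q - 1) * (q + 1) := by
      have : 4 * (q + 1) ≤ (q - 1) * (q + 1) := Nat.mul_le_mul_right _ (by omega)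
      omega
    have h2 : Nat.gcd 2 (q - 1) ≤ 2 := Nat.gcd_le_left _ (by norm_num)
    have h3 : 0 < Nat.gcd 2 (q - 1) := Nat.gcd_pos_of_pos_left _ (by norm_num)
    rw [hN, Nat.le_div_iff_mul_le h3, hsq]
    calc 2 * (q + 1) * Nat.gcd 2 (q - 1) ≤ 2 * (q + 1) * 2 := Nat.mul_le_mul_left _ h2
      _ ≤ _ := by linarith
  have hpN : ¬ p ∣ N := fun h => by
    rcases hp.dvd_mul.1 (h.trans hN2) with h1 | h1
    · exact hpq1' h1
    · exact hpq1 h1
  have key : ∀ e, (e = q - 1 ∨ e = q + 1) → v ∣ e → ¬ SCC (PSp 2 F) v := by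
    intro e he hve
    have hv1 : v ≤ q + 1 := by
      have := Nat.le_of_dvd (by omega) hve
      omega
    have hve' : v ≤ e := Nat.le_of_dvd (by omega) hve
    have hpe : e < p * e := by
      have : 2 * e ≤ p * e := Nat.mul_le_mul_right _ hp2
      omega
    obtain ⟨x, hx⟩ := (hspec v).2 (by
      rcases he with rfl | rfl
      · exact Or.inl (hve.mul_left p)
      · exact Or.inr (Or.inl (hve.mul_left p)))
    obtain ⟨y, hy⟩ := (hspec (p * e)).2 (by
      rcases he with rfl | rfl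
      · exact Or.inl dvd_rfl
      · exact Or.inr (Or.inl dvd_rfl))
    obtain ⟨z, hz⟩ := (hspec N).2 (Or.inr (Or.inr (Or.inl dvd_rfl)))
    refine not_SCC_of_orders (x := x) (y := y) (z := z) (by rw [hx]) (by rw [hy]; exact hve.mul_left p) ?_ ?_ ?_ ?_
    · rw [hz]
      rcases he with rfl | rfl
      · exact hve.trans hT.1
      · exact hve.trans hT.2
    · rw [hx, hy]; omega
    · rw [hx, hz]; omega
    · rw [hy, hz]
      intro h
      exact hpN (h ▸ dvd_mul_right p e)
  have hchar : v = p → ¬ SCC (PSp 2 F) v := by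
    rintro rfl
    obtain ⟨x, hx⟩ := (hspec v).2 (Or.inl (dvd_mul_right _ _))
    obtain ⟨y, hy⟩ := (hspec (v * (q - 1))).2 (Or.inl dvd_rfl)
    obtain ⟨z, hz⟩ := (hspec (v * (q + 1))).2 (Or.inr (Or.inl dvd_rfl))
    refine not_SCC_of_orders (x := x) (y := y) (z := z) (by rw [hx]) (by rw [hy]; exact dvd_mul_right _ _)
      (by rw [hz]; exact dvd_mul_right _ _) ?_ ?_ ?_
    · rw [hx, hy]
      intro h
      have h1 := Nat.eq_of_mul_eq_mul_left hp.pos ((mul_one v).trans h)
      omega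
    · rw [hx, hz]
      intro h
      have h1 := Nat.eq_of_mul_eq_mul_left hp.pos ((mul_one v).trans h)
      omega
    · rw [hy, hz]
      intro h
      have h1 := Nat.eq_of_mul_eq_mul_left hp.pos h
      omega
  have hprime : ∀ s t : ℕ, v ∣ s * t → v ∣ s ∨ v ∣ t := fun s t h => hv.dvd_mul.1 h
  have heq : v ∣ p → v = p := fun h => (Nat.prime_dvd_prime_iff_eq hv hp).1 h
  obtain ⟨w, hw⟩ := exists_prime_orderOf_dvd_card' v hvd
  rcases (hspec v).1 ⟨w, hw⟩ with h | h | h | h | ⟨h3, h⟩ | ⟨h2, h⟩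
  · rcases hprime _ _ h with h | h
    · exact hchar (heq h)
    · exact key _ (Or.inl rfl) h
  · rcases hprime _ _ h with h | h
    · exact hchar (heq h)
    · exact key _ (Or.inr rfl) h
  · rcases hprime _ _ (h.trans hN2) with h | h
    · exact key _ (Or.inl rfl) h
    · exact key _ (Or.inr rfl) h
  · by_cases hv2 : v = 2
    · subst hv2
      rcases Nat.even_or_odd q with he | ho
      · apply hchar
        symm
        rw [hq, hn] at he
        exact (hp.even_iff).1 (Nat.even_pow.1 he).1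
      · obtain ⟨k, hk⟩ := ho
        exact key _ (Or.inl rfl) ⟨k, by omega⟩
    · refine not_SCC_big (by rw [← hq]; exact h5) hv hv2 ?_
      rw [← hq]
      have hg : Nat.gcd 2 (q - 1) ∣ q ^ 2 + 1 := by
        rcases Nat.even_or_odd q with he | ho
        · rw [gcd_of_even he (by omega)]
          exact one_dvd _
        · rw [gcd_of_odd ho]
          exact (ho.pow.add_one : Even (q ^ 2 + 1)).two_dvd
      exact h.trans (Nat.div_dvd_of_dvd hg)
  · apply hchar
    rw [h3]
    have h9 : v ∣ 3 := hv.dvd_of_dvd_pow (show v ∣ 3 ^ 2 from h)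
    exact (Nat.prime_dvd_prime_iff_eq hv Nat.prime_three).1 h9
  · apply hchar
    rw [h2]
    have h9 : v ∣ 2 := hv.dvd_of_dvd_pow (show v ∣ 2 ^ 2 from h)
    exact (Nat.prime_dvd_prime_iff_eq hv Nat.prime_two).1 h9

end Cfsg.Agent.H580.Der.Ntc
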