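import Cfsg.Agent.H896.Der4.Odd
import Cfsg.Agent.H580.Der.Ntc

/-!
# `PSp_4(q)`, `q ≥ 5` odd: three missing classes (helper580, S3502; after helper896's `row_odd`)
-/

set_option autoImplicit false
set_option linter.unusedSectionVars false

namespace Cfsg.Agent.H580.Der.OddS

open Module Cfsg Cfsg.Geo Cfsg.Agent.H884.El Matrix
open Cfsg.Agent.H262.El (pre pre_le pre_ne scalars_le_pre mem_pre spToGL_injective two_le_of_symp)
open Cfsg.Agent.ClassicalGeometry.SympBasic Cfsg.Agent.H876 Cfsg.Agent.H931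
open Cfsg.Agent.H938.Sax (PGap OrdGap OGMax)
open Cfsg.Agent.H909.Sp4List Cfsg.Agent.H909.Sp4Geom Cfsg.Agent.H909.Sp4Arith
open Cfsg.Agent.H374.SpFour Cfsg.Agent.H374.Quad Cfsg.Agent.H901.SaxSp Cfsg.Agent.H439.Der Cfsg.Agent.H896.Der4
open scoped MatrixGroups Matrix

variable {F : Type} [Field F] [Fintype F]

/-- **`PSp_4(q)`, `q ≥ 5` odd**. -/
theorem three_odd (hodd : Odd (Fintype.card F)) (h5 : 5 ≤ Fintype.card F) {M : Subgroup (PSp 2 F)}
    (hM : IsCoatom M) : Three (PSp 2 F) M := by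
  classical
  have hnsc := Cfsg.Agent.H580.Der.Ntc.ntc h5
  by_cases hP : PGap (PSp 2 F) M
  · exact Three.of_pgap hnsc hP
  have h2F : (2 : F) ≠ 0 := Cfsg.Agent.H909.Sp4Geom.two_ne hodd
  have hq := one_lt_q F
  have hc : Nat.card F = Fintype.card F := Nat.card_eq_fintype_card
  obtain ⟨p, hpchar⟩ : ∃ p, CharP F p := CharP.exists F
  have hp : p.Prime := CharP.char_is_prime F p
  have hpf : Fact p.Prime := ⟨hp⟩
  obtain ⟨n, hn1, hn⟩ : ∃ n : ℕ, 1 ≤ n ∧ Fintype.card F = p ^ n := by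
    obtain ⟨n, -, hn⟩ := FiniteField.card F p
    exact ⟨n, n.pos, hn⟩
  have hp2 : p ≠ 2 := by
    rintro rfl
    rw [hn] at hodd
    exact (Nat.not_even_iff_odd.2 hodd) (Even.pow_of_ne_zero even_two (by omega))
  have hp3 : 3 ≤ p := by have := hp.two_le; omega
  have hpn : Nat.card F = p ^ n := by rw [hc, hn]
  have hspec := exists_iff (F := F) (p := p) (n := n) (by omega) hn (by rw [← hn]; omega)
  rw [← hn] at hspec
  -- the primes
  obtain ⟨r₀, hr₀⟩ : ∃ r, PP p (n * 4) r := exists_pp hp.two_le (by omega) (by omega)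
  have hr₀q : PP (Nat.card F) 4 r₀ := by rw [hpn]; exact hr₀.of_pow hn1
  have hlt := hr₀.lt (by omega)
  have h0 : r₀ ∣ Nat.card (pre M) :=
    hits_of hP (e := 4) (i := 2) (by norm_num) le_rfl (by norm_num) (Or.inl (by norm_num)) _ hr₀q
  have hpd : p ∣ Nat.card (pre M) := by
    have h1 : p ∣ Nat.card (PSp 2 F) := Cfsg.Agent.H163.PG.char_dvd_psp hp hn1 hn (by norm_num)
    have h2 : p ∣ Nat.card M := by
      by_contra h
      exact hP ⟨p, hp, h1, h⟩
    exact h2.trans (card_dvd_pre M)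
  have hmax := isMaximalIn_pre hM
  rcases list hodd (res88 hodd) hmax with h | h | h | h | h | h | h | h
  · -- totally isotropic subspaces
    exfalso
    obtain ⟨y, hyH, hyr, hy1⟩ := exists_elt' hr₀q.prime h0
    obtain ⟨W, hW0, hW, hWe⟩ := h
    rw [hWe] at hyH
    exact Cfsg.Agent.H262.El.not_mem_subspaceStabilizer_of_irr
      (Cfsg.Agent.H262.El.irr_of_od (by
        rw [← hc]; exact PP.od hr₀q (by norm_num)) hyr hy1)
      hW0 (Cfsg.Agent.H262.El.totallySingular_ne_top (by norm_num) hW) hyH.1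
  · exfalso
    rw [card_of_T2 h2F h, a2] at h0
    exact PP.false_of_dvd (a := 1) (b := 1) (c := 1) (d := 2) hr₀q hq.le (by simpa using h0)
      (fun h => hr₀q.prime.one_lt.ne' (Nat.dvd_one.1 h))
  · exfalso
    rw [card_of_T3 h2F h, a3] at h0
    refine PP.false_of_dvd (a := 1) (b := 1) (c := 2) (d := 1) hr₀q hq.le (h0.trans ?_)
      (fun h => hr₀q.prime.one_lt.ne' (Nat.dvd_one.1 h))
    have h1 : Nat.card F - 1 ∣ Nat.card F ^ 2 - 1 := by
      have := Nat.sub_dvd_pow_sub_pow (Nat.card F) 1 2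
      rwa [one_pow] at this
    rw [mul_one, pow_one, pow_one, mul_assoc (Nat.card F), pow_two (Nat.card F ^ 2 - 1)]
    exact Nat.mul_dvd_mul_left _ (Nat.mul_dvd_mul_left _ (Nat.mul_dvd_mul_right h1 _))
  · -- `Sp_2(q²).2`
    obtain ⟨K, hK, hsa, -, hKe⟩ := h
    obtain ⟨x, hx⟩ := (hspec (p * (Fintype.card F - 1))).2 (Or.inl dvd_rfl)
    obtain ⟨y, hy⟩ := (hspec (p * (Fintype.card F + 1))).2 (Or.inr (Or.inl dvd_rfl))
    obtain ⟨k, hk⟩ := hodd
    obtain ⟨z, hz⟩ := (hspec (p * (k + 1))).2 (Or.inr (Or.inl (by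
      rw [hk]
      exact ⟨2, by ring⟩)))
    have key : ∀ e : ℕ, 3 ≤ e → ∀ m ∈ M, orderOf m ≠ p * e := by
      intro e he m hm hmo
      obtain ⟨A, hA, rfl⟩ := cl_surj m
      have hAp : spToGL 2 F ⟨A, hA⟩ ∈ pre M := mem_pre.2 hm
      have hAK : spToGL 2 F ⟨A, hA⟩ ∈ subalgebraNormalizer K := by
        rw [hKe] at hAp
        exact hAp.1
      have hpow : (cl A hA) ^ (2 * e * p) = 1 := by
        rw [show 2 * e * p = p * e * 2 by ring, pow_mul, ← hmo, pow_orderOf_eq_one, one_pow]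
      obtain ⟨ε, hε⟩ := cl_pow_eq_one.1 hpow
      have hε2 := sq_of_scalar hA hε
      have hp0 := hp.pos
      rcases ext_scalar' (p := p) (k := e) hp2 hK hsa (spToGL_mem _) hAK hε2 hε with ⟨c, hc'⟩ | ⟨c, hc'⟩
      · have h1 : (cl A hA) ^ (2 * e) = 1 := cl_pow_eq_one.2 ⟨c, hc'⟩
        have h2 := orderOf_dvd_of_pow_eq_one h1
        rw [hmo] at h2
        have := Nat.le_of_dvd (by omega) h2
        nlinarith
      · have h1 : (cl A hA) ^ (2 * p) = 1 := cl_pow_eq_one.2 ⟨c, hc'⟩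
        have h2 := orderOf_dvd_of_pow_eq_one h1
        rw [hmo, mul_comm 2 p] at h2
        have h3 := Nat.dvd_of_mul_dvd_mul_left hp0 h2
        have := Nat.le_of_dvd (by omega) h3
        omega
    refine Three.of_orders ?_ ?_ ?_ hx hy hz (key _ (by omega)) (key _ (by omega)) (key _ (by omega))
    all_goals
      intro h
      have := Nat.eq_of_mul_eq_mul_left hp.pos h
      omega
  · exfalso
    rw [card_of_T5 h2F h, a5] at h0
    refine PP.false_of_dvd (a := 1) (b := 1) (c := 2) (d := 1) hr₀q hq.le (h0.trans ?_)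
      (fun h => hr₀q.prime.one_lt.ne' (Nat.dvd_one.1 h))
    have h1 : Nat.card F + 1 ∣ Nat.card F ^ 2 - 1 := by
      refine ⟨Nat.card F - 1, ?_⟩
      have := Nat.sq_sub_sq (Nat.card F) 1
      rwa [one_pow] at this
    rw [mul_one, pow_one, pow_one, mul_assoc (Nat.card F), pow_two (Nat.card F ^ 2 - 1)]
    exact Nat.mul_dvd_mul_left _ (Nat.mul_dvd_mul_left _ (Nat.mul_dvd_mul_right h1 _))
  · -- subfields
    exfalso
    obtain ⟨F₀, s, P, ζ, hs, hcard, -, -, hMe⟩ := h
    exact kill_subfield (H := pre M) (hMe.le.trans inf_le_left) hs (by rw [hc]; exact hcard) hp hpn hr₀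
      (by decide) (by norm_num) h0
  · -- `2^{1+4}`
    exfalso
    have hprime := prime_of_T7 h
    have hF : Nat.card F = p := by
      have h1 : p ∣ Nat.card F := by rw [hpn]; exact dvd_pow_self p (by omega)
      exact ((Nat.prime_dvd_prime_iff_eq hp hprime).1 h1).symm
    have h7 : Nat.card (pre M) ∣ 3840 := Cfsg.Agent.H97.Sp4Ext.card_T7_dvd h
    have hr5 : r₀ = 5 := five_of_3840 hr₀.prime (by omega) (h0.trans h7)
    have h6 : p = 5 := five_of_3840 hp (by omega) (hpd.trans h7)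
    apply hr₀.not_dvd (by omega)
    rw [hr5, h6]
  · obtain ⟨P, p', hcore, hp', hchar, h | h | h⟩ := h
    · exfalso
      obtain ⟨⟨e⟩, h1, h5, -⟩ := h
      have hpp : p' = p := CharP.eq F hchar hpchar
      subst hpp
      have h7 := Cfsg.Agent.H753.ResCard.card_A6 hmax.1.le hcore e
      have h8 : ∀ r : ℕ, r.Prime → 5 ≤ r → r ∣ 2880 → r = 5 := by
        intro r hr h5 h
        rw [show 2880 = 2 ^ 6 * 3 ^ 2 * 5 by norm_num] at h
        rcases (hr.dvd_mul).1 h with h | h
        · rcases (hr.dvd_mul).1 h with h | h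
          · have := Nat.le_of_dvd (by norm_num) (hr.dvd_of_dvd_pow h)
            omega
          · have := Nat.le_of_dvd (by norm_num) (hr.dvd_of_dvd_pow h)
            omega
        · have := Nat.le_of_dvd (by norm_num) h
          omega
      have h9 := h8 _ hr₀.prime (by omega) (h0.trans h7)
      have h10 := h8 _ hp h5 (hpd.trans h7)
      apply hr₀.not_dvd (by omega)
      rw [h9, h10]
    · obtain ⟨⟨e⟩, h1⟩ := h
      have hp7 : p = 7 := by
        have h2 : p ∣ 7 := by rw [← h1, hn]; exact dvd_pow_self p (by omega)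
        exact (Nat.prime_dvd_prime_iff_eq hp (by norm_num)).1 h2
      obtain ⟨x, hx⟩ := (hspec 25).2 (by rw [Om, h1]; norm_num)
      obtain ⟨y, hy⟩ := (hspec 56).2 (by rw [Om, h1, hp7]; norm_num)
      obtain ⟨z, hz⟩ := (hspec 24).2 (by rw [Om, h1, hp7]; norm_num)
      have key : ∀ m ∈ M, orderOf m ∣ 420 := by
        intro m hm
        obtain ⟨A, hA, rfl⟩ := cl_surj m
        have hAp : spToGL 2 F ⟨A, hA⟩ ∈ pre M := mem_pre.2 hm
        have h2 := A7_order hcore e hAp
        apply orderOf_dvd_of_pow_eq_one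
        rw [cl_pow_eq_one]
        obtain ⟨c, hc'⟩ := (mem_scalars_iff _).1 h2
        refine ⟨c, ?_⟩
        rw [Units.val_pow_eq_pow_val] at hc'
        exact hc'
      refine Three.of_orders (by norm_num) (by norm_num) (by norm_num) hx hy hz (fun m hm h => ?_) (fun m hm h => ?_)
        (fun m hm h => ?_)
      all_goals
        have := key m hm
        rw [h] at this
        exact absurd this (by norm_num)
    · exfalso
      obtain ⟨⟨e⟩, h5, h7⟩ := h
      have h8 := Cfsg.Agent.H753.ResCard.card_L2 hp hn hodd (by omega) hmax.1.le hcore e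
      refine PP.false_of_dvd (a := n) (b := 1) (c := 1) (d := 1) hr₀q hq.le ?_ ?_
      · simpa using h0.trans h8
      · intro h
        have := Nat.le_of_dvd hn1 h
        omega

end Cfsg.Agent.H580.Der.OddS
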