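import Cfsg.Agent.H580.Der.Eight
import Cfsg.Agent.H580.Der.OddS

/-!
# The strong row of `PSp_4(q)`, `q ≥ 5` (helper580, for S3502, for helper439)
-/

set_option autoImplicit false

namespace Cfsg.Agent.H580.Der.Sp4

open Cfsg.Agent.H439.Der

/-- **`PSp_4(q)`, `q ≥ 5`**. -/
theorem rowS_psp4 {F : Type} [Field F] [Fintype F] (hq : 5 ≤ Fintype.card F) : RowS (Cfsg.PSp 2 F) := by
  by_cases hodd : Odd (Fintype.card F)
  · exact RowS.of_three fun M hM => Cfsg.Agent.H580.Der.OddS.three_odd hodd hq hM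
  · obtain ⟨p, hpchar⟩ : ∃ p, CharP F p := CharP.exists F
    have hp : p.Prime := CharP.char_is_prime F p
    have hpf : Fact p.Prime := ⟨hp⟩
    obtain ⟨n, -, hn⟩ := FiniteField.card F p
    have hp2 : p = 2 := by
      by_contra h
      apply hodd
      rw [hn]
      exact (hp.odd_of_ne_two h).pow
    subst hp2
    have h8 : 8 ≤ Fintype.card F := by
      have h2 : 2 < (n : ℕ) := by
        by_contra hcon
        have : (n : ℕ) ≤ 2 := by omega
        have := Nat.pow_le_pow_right (show 0 < 2 by norm_num) this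
        rw [hn] at hq
        omega
      rw [hn]
      calc 8 = 2 ^ 3 := by norm_num
        _ ≤ 2 ^ (n : ℕ) := Nat.pow_le_pow_right (by norm_num) h2
    refine RowS.of_coatoms fun M hM => ?_
    rcases Cfsg.Agent.H580.Der.EvenM.three_or h8 hM with h | ⟨h8', h⟩
    · exact Or.inl h
    · right
      obtain ⟨h1, h2⟩ := Cfsg.Agent.H580.Der.EvenM.eight h8' h
      refine ⟨h1, fun R hR => h2 R hR.le ?_⟩
      rintro ⟨a, b, c⟩
      exact hR.ne (Cfsg.Agent.H580.Der.Eight.eight_sub h8' h hR.le a b c)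

end Cfsg.Agent.H580.Der.Sp4
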