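import Mathlib
import Cfsg.Prelude.Def_ClassicalGeometry
import Cfsg.Agent.ClassicalGeometry.SympAutSemi

/-!
# Semilinear conjugation of powers of an irreducible element (helper580, for S3502, S3500)

`pow_of_semi` : if `A` acts irreducibly on `F^ι` and a semilinear permutation conjugates `A ^ i` to `ε A ^ j`, then
`ε A ^ j = (A ^ i) ^ (p ^ k)` for some `k`.
-/

set_option autoImplicit false

namespace Cfsg.Agent.H580.Der.Eig

open Polynomial Matrix

section field

variable {F K : Type*} [Field F] [Field K] [Finite K] [Algebra F K]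

/-- the roots of the twisted minimal polynomial. -/
theorem exists_pow_of_root {p : ℕ} [Fact p.Prime] [CharP F p] (σ : F ≃+* F) {y z : K}
    (h : aeval z ((minpoly F y).map (σ : F →+* F)) = 0) : ∃ k : ℕ, z = y ^ p ^ k := by
  have hcK : CharP K p := (Algebra.charP_iff F K p).1 inferInstance
  let _ : Algebra (ZMod p) K := ZMod.algebra K p
  let _ : Algebra (ZMod p) F := ZMod.algebra F p
  have hfin : Module.Finite (ZMod p) K := Module.Finite.of_finite
  have hint : IsIntegral (ZMod p) y := IsIntegral.of_finite _ _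
  have htow : IsScalarTower (ZMod p) F K := IsScalarTower.of_algebraMap_eq' (RingHom.ext_zmod _ _)
  set m0 := minpoly (ZMod p) y with hm0
  have h1 : minpoly F y ∣ m0.map (algebraMap (ZMod p) F) := by
    apply minpoly.dvd
    rw [aeval_map_algebraMap, minpoly.aeval]
  obtain ⟨Q, hQ⟩ := h1
  have h2 : m0.map (algebraMap (ZMod p) F) =
      ((minpoly F y).map (σ : F →+* F)) * (Q.map (σ : F →+* F)) := by
    rw [← Polynomial.map_mul, ← hQ, Polynomial.map_map]
    congr 1
    exact RingHom.ext_zmod _ _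
  have h3 : aeval z m0 = 0 := by
    have : aeval z (m0.map (algebraMap (ZMod p) F)) = 0 := by
      rw [h2, map_mul, h, zero_mul]
    rwa [aeval_map_algebraMap] at this
  have h4 : IsConjRoot (ZMod p) y z := isConjRoot_of_aeval_eq_zero hint h3
  have hn : Normal (ZMod p) K := inferInstance
  obtain ⟨τ, hτ⟩ := h4.symm.exists_algEquiv
  obtain ⟨n, hn⟩ := (FiniteField.bijective_frobeniusAlgEquivOfAlgebraic_pow (ZMod p) K).2 τ
  have h5 : ∀ k : ℕ, ∀ x : K, ((FiniteField.frobeniusAlgEquivOfAlgebraic (ZMod p) K) ^ k) x = x ^ p ^ k := by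
    intro k x
    induction k with
    | zero => simp
    | succ k ih =>
      rw [pow_succ', AlgEquiv.mul_apply, ih, FiniteField.coe_frobeniusAlgEquivOfAlgebraic, ZMod.card, pow_succ,
        pow_mul]
  refine ⟨n, ?_⟩
  rw [← hτ, ← hn]
  exact h5 _ _

end field

section semi

variable {ι : Type*} [Fintype ι] [DecidableEq ι] {F : Type*} [Field F]

/-- semilinear conjugation and polynomials. -/
theorem aeval_semi {g : Equiv.Perm (ι → F)} {σ : F ≃+* F} (hadd : ∀ u v, g (u + v) = g u + g v)
    (hsmul : ∀ (a : F) (v), g (a • v) = σ a • g v) {A C : Matrix ι ι F} (hC : ∀ v, C *ᵥ (g v) = g (A *ᵥ v)) (P : F[X])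
    (v : ι → F) : (aeval C (P.map (σ : F →+* F))) *ᵥ (g v) = g ((aeval A P) *ᵥ v) := by
  induction P using Polynomial.induction_on' generalizing v with
  | add P Q hP hQ => rw [Polynomial.map_add, map_add, map_add, Matrix.add_mulVec, Matrix.add_mulVec, hadd, hP, hQ]
  | monomial n a =>
    rw [Polynomial.map_monomial, aeval_monomial, aeval_monomial, ← Algebra.smul_def, ← Algebra.smul_def,
      Matrix.smul_mulVec, Matrix.smul_mulVec, hsmul]
    congr 1
    induction n generalizing v with
    | zero => simp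
    | succ n ih => rw [pow_succ, pow_succ, ← Matrix.mulVec_mulVec, hC, ih, Matrix.mulVec_mulVec]

theorem aeval_semi_eq_zero {g : Equiv.Perm (ι → F)} {σ : F ≃+* F} (hadd : ∀ u v, g (u + v) = g u + g v)
    (hsmul : ∀ (a : F) (v), g (a • v) = σ a • g v) {A C : Matrix ι ι F} (hC : ∀ v, C *ᵥ (g v) = g (A *ᵥ v)) {P : F[X]}
    (hP : aeval A P = 0) : aeval C (P.map (σ : F →+* F)) = 0 := by
  have h0 : g 0 = 0 := by
    have := hadd 0 0
    rw [add_zero] at this
    exact left_eq_add.1 this
  apply Matrix.toLin'.injective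
  rw [map_zero]
  refine LinearMap.ext fun w => ?_
  rw [Matrix.toLin'_apply, LinearMap.zero_apply]
  obtain ⟨v, rfl⟩ := g.surjective w
  rw [aeval_semi hadd hsmul hC, hP, Matrix.zero_mulVec, h0]

/-- The algebra generated by an irreducible element has no zero divisors. -/
theorem mul_eq_zero_of_irr {A : Matrix ι ι F}
    (hirr : ∀ W : Submodule F (ι → F), (∀ v ∈ W, A *ᵥ v ∈ W) → W = ⊥ ∨ W = ⊤) {c d : Matrix ι ι F}
    (hc : c ∈ Algebra.adjoin F {A}) (h : c * d = 0) : c = 0 ∨ d = 0 := by
  have hcomm : Commute c A := by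
    have h1 : Algebra.adjoin F {A} ≤ Subalgebra.centralizer F {A} := by
      apply Algebra.adjoin_le
      rintro x rfl
      rw [SetLike.mem_coe, Subalgebra.mem_centralizer_iff]
      rintro y rfl
      rfl
    exact ((Subalgebra.mem_centralizer_iff F).1 (h1 hc) A rfl).symm
  rcases hirr (LinearMap.ker (Matrix.toLin' c)) (fun v hv => by
    rw [LinearMap.mem_ker, Matrix.toLin'_apply] at hv ⊢
    rw [Matrix.mulVec_mulVec, hcomm.eq, ← Matrix.mulVec_mulVec, hv, Matrix.mulVec_zero]) with h1 | h1
  · right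
    apply Matrix.toLin'.injective
    rw [map_zero]
    refine LinearMap.ext fun w => ?_
    rw [Matrix.toLin'_apply, LinearMap.zero_apply]
    have h2 : d *ᵥ w ∈ LinearMap.ker (Matrix.toLin' c) := by
      rw [LinearMap.mem_ker, Matrix.toLin'_apply, Matrix.mulVec_mulVec, h, Matrix.zero_mulVec]
    rwa [h1, Submodule.mem_bot] at h2
  · left
    apply Matrix.toLin'.injective
    rw [map_zero]
    exact LinearMap.ker_eq_top.1 h1

/-- **Semilinear conjugation of powers.** -/
theorem pow_of_semi [Finite F] {p : ℕ} [Fact p.Prime] [CharP F p] [Nonempty ι] {A : Matrix ι ι F}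
    (hirr : ∀ W : Submodule F (ι → F), (∀ v ∈ W, A *ᵥ v ∈ W) → W = ⊥ ∨ W = ⊤)
    {g : Equiv.Perm (ι → F)} {σ : F ≃+* F} (hadd : ∀ u v, g (u + v) = g u + g v)
    (hsmul : ∀ (a : F) (v), g (a • v) = σ a • g v) {i j : ℕ} {ε : F}
    (hC : ∀ v, (ε • A ^ j) *ᵥ (g v) = g ((A ^ i) *ᵥ v)) : ∃ k : ℕ, ε • A ^ j = (A ^ i) ^ p ^ k := by
  classical
  let _ : CommRing (Algebra.adjoin F {A}) := Algebra.adjoinCommRingOfComm F (by
    rintro a rfl b rfl
    rfl)
  have hfin : Finite (Algebra.adjoin F {A}) := inferInstance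
  have hnt : Nontrivial (Algebra.adjoin F {A}) := inferInstance
  have hnz : NoZeroDivisors (Algebra.adjoin F {A}) := ⟨by
    intro a b hab
    rcases mul_eq_zero_of_irr hirr a.2 (congrArg Subtype.val hab) with h | h
    · exact Or.inl (Subtype.ext h)
    · exact Or.inr (Subtype.ext h)⟩
  have hdom : IsDomain (Algebra.adjoin F {A}) := NoZeroDivisors.to_isDomain _
  let _ : Field (Algebra.adjoin F {A}) := (Finite.isField_of_domain (Algebra.adjoin F {A})).toField
  have hA : A ∈ Algebra.adjoin F {A} := Algebra.self_mem_adjoin_singleton F A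
  set y : Algebra.adjoin F {A} := ⟨A ^ i, Subalgebra.pow_mem _ hA i⟩ with hy
  set z : Algebra.adjoin F {A} := ⟨ε • A ^ j, Subalgebra.smul_mem _ (Subalgebra.pow_mem _ hA j) ε⟩ with hz
  have h1 : aeval (A ^ i) (minpoly F y) = 0 := by
    have h2 := congrArg (Algebra.adjoin F {A}).val (minpoly.aeval F y)
    rw [← Polynomial.aeval_algHom_apply, map_zero] at h2
    exact h2
  have h3 := aeval_semi_eq_zero hadd hsmul hC h1
  have h4 : aeval z ((minpoly F y).map (σ : F →+* F)) = 0 := by
    apply Subtype.ext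
    have h5 : (Algebra.adjoin F {A}).val (aeval z ((minpoly F y).map (σ : F →+* F))) =
        aeval (ε • A ^ j) ((minpoly F y).map (σ : F →+* F)) := by
      rw [← Polynomial.aeval_algHom_apply]
      rfl
    rw [h3] at h5
    exact h5
  obtain ⟨k, hk⟩ := exists_pow_of_root σ h4
  exact ⟨k, congrArg Subtype.val hk⟩

end semi

end Cfsg.Agent.H580.Der.Eig
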