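import Cfsg.Agent.H580.Der.EvenM
import Cfsg.Agent.S0806
import Cfsg.Agent.LieClassical.OrthFourMinus

/-!
# `PSp_4(8)`: proper subgroups of `SL_2(64).2` (helper580, for S3502)
-/

set_option autoImplicit false

namespace Cfsg.Agent.H580.Der.Eight

open Module Cfsg Cfsg.Geo Cfsg.Agent.H884.El Matrix
open Cfsg.Agent.H262.El (pre pre_le pre_ne scalars_le_pre mem_pre spToGL_injective two_le_of_symp)
open Cfsg.Agent.ClassicalGeometry.SympBasic Cfsg.Agent.H876 Cfsg.Agent.H931
open Cfsg.Agent.H374.SpFour Cfsg.Agent.H374.Quad Cfsg.Agent.H901.SaxSp Cfsg.Agent.H439.Der Cfsg.Agent.H896.Der4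
open Cfsg.Agent.H580.Der.EvenQ
open scoped MatrixGroups Matrix

section abstract_part

variable {L : Type} [Field L] [Fintype L]

theorem char_two_of_card (hL : Fintype.card L = 64) : CharP L 2 := by
  obtain ⟨p, hp⟩ := CharP.exists L
  obtain ⟨n, hpp, hn⟩ := FiniteField.card L p
  have h1 : p ∣ 2 ^ 6 := by
    rw [show 2 ^ 6 = Fintype.card L by rw [hL]; norm_num, hn]
    exact dvd_pow_self p n.2.ne'
  have h2 := (Nat.prime_dvd_prime_iff_eq hpp Nat.prime_two).1 (hpp.dvd_of_dvd_pow h1)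
  rwa [h2] at hp

omit [Fintype L] in
/-- in characteristic two `SL_2 → PSL_2` is injective. -/
theorem mk_injective [CharP L 2] :
    Function.Injective (QuotientGroup.mk' (Subgroup.center (Matrix.SpecialLinearGroup (Fin 2) L))) := by
  rw [injective_iff_map_eq_one]
  intro A hA
  rw [QuotientGroup.mk'_apply, QuotientGroup.eq_one_iff, Matrix.SpecialLinearGroup.mem_center_iff] at hA
  obtain ⟨c, hc, hcA⟩ := hA
  have hc1 : c = 1 := by
    rw [Fintype.card_fin] at hc
    have h3 : (c - 1) ^ 2 = 0 := by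
      rw [sub_pow_char]
      simp [hc]
    exact sub_eq_zero.1 (pow_eq_zero_iff two_ne_zero |>.1 h3)
  apply Subtype.ext
  rw [← hcA, hc1, map_one]
  rfl

omit [Fintype L] in
/-- no elements of order four in `PSL_2(2^n)`. -/
theorem psl_no_four [CharP L 2] {x : Matrix.ProjectiveSpecialLinearGroup (Fin 2) L} (hx : x ^ 4 = 1) : x ^ 2 = 1 := by
  obtain ⟨A, rfl⟩ := QuotientGroup.mk_surjective x
  have h1 : (QuotientGroup.mk (A ^ 4) : Matrix.ProjectiveSpecialLinearGroup (Fin 2) L) = 1 := hx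
  rw [QuotientGroup.eq_one_iff, Matrix.SpecialLinearGroup.mem_center_iff] at h1
  obtain ⟨c, hc, hcA⟩ := h1
  have hc1 : c = 1 := by
    rw [Fintype.card_fin] at hc
    have h3 : (c - 1) ^ 2 = 0 := by
      rw [sub_pow_char]
      simp [hc]
    exact sub_eq_zero.1 (pow_eq_zero_iff two_ne_zero |>.1 h3)
  have h4 : (A : Matrix (Fin 2) (Fin 2) L) ^ 4 = 1 := by
    have : ((A ^ 4 : Matrix.SpecialLinearGroup (Fin 2) L) : Matrix (Fin 2) (Fin 2) L) = A.1 ^ 4 :=
      Matrix.SpecialLinearGroup.coe_pow _ _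
    rw [hc1, map_one] at hcA
    rw [← this, ← hcA]
  obtain ⟨B, hB⟩ : ∃ B : Matrix (Fin 2) (Fin 2) L, B = (A : Matrix (Fin 2) (Fin 2) L) := ⟨_, rfl⟩
  have hdet : B.det = 1 := by rw [hB]; exact A.2
  rw [← hB] at h4
  have hcay := Cfsg.Agent.H813.SaxSp.cayley B hdet
  obtain ⟨τ, hτ⟩ : ∃ τ, τ = B 0 0 + B 1 1 := ⟨_, rfl⟩
  rw [← hτ] at hcay
  have h2 : (2 : L) = 0 := CharTwo.two_eq_zero
  have hsq : B * B = τ • B + 1 := by
    have h3 : B * B + (τ • B + 1) = 0 := by rw [← add_assoc]; exact hcay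
    have h5 : (τ • B + 1) + (τ • B + 1) = 0 := by
      rw [← two_smul L (τ • B + 1), h2, zero_smul]
    calc B * B = B * B + ((τ • B + 1) + (τ • B + 1)) := by rw [h5, add_zero]
      _ = (B * B + (τ • B + 1)) + (τ • B + 1) := (add_assoc _ _ _).symm
      _ = _ := by rw [h3, zero_add]
  have h6 : B ^ 4 = (τ * τ) • (B * B) + 1 := by
    calc B ^ 4 = (B * B) * (B * B) := by rw [show 4 = 2 + 2 from rfl, pow_add, pow_two]
      _ = (τ • B + 1) * (τ • B + 1) := by rw [hsq]
      _ = (τ * τ) • (B * B) + (2 : L) • (τ • B) + 1 := by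
        rw [add_mul, mul_add, mul_one, one_mul, Matrix.smul_mul, Matrix.mul_smul, smul_smul, two_smul]
        abel
      _ = _ := by rw [h2, zero_smul, add_zero]
  rw [h4] at h6
  have h7 : (τ * τ) • (B * B) = 0 := by
    have := congrArg (fun X => X - 1) h6
    simpa using this.symm
  have h8 : (τ * τ) • (1 : Matrix (Fin 2) (Fin 2) L) = 0 := by
    have h9 : (τ * τ) • ((B * B) * (B * B)) = 0 := by rw [← Matrix.smul_mul, h7, Matrix.zero_mul]
    rwa [show (B * B) * (B * B) = B ^ 4 by rw [show 4 = 2 + 2 from rfl, pow_add, pow_two], h4] at h9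
  have h9 : τ = 0 := by
    have := congrFun (congrFun h8 0) 0
    simpa using this
  rw [h9, zero_smul, zero_add] at hsq
  have h10 : A ^ 2 = 1 := by
    apply Subtype.ext
    have h11 : ((A ^ 2 : Matrix.SpecialLinearGroup (Fin 2) L) : Matrix (Fin 2) (Fin 2) L) = A.1 ^ 2 :=
      Matrix.SpecialLinearGroup.coe_pow _ _
    have h12 : A.1 ^ 2 = 1 := by
      have : A.1 = B := hB.symm
      rw [this, pow_two, hsq]
    exact h11.trans h12
  have h13 : (QuotientGroup.mk A : Matrix.ProjectiveSpecialLinearGroup (Fin 2) L) ^ 2 = QuotientGroup.mk (A ^ 2) := rfl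
  rw [h13, h10]
  rfl

/-- **The abstract argument.** -/
theorem eq_top_of {O : Type*} [Group O] [Finite O] (hO : Nat.card O ∣ 2 * (2 ^ 3) ^ 2 * ((2 ^ 3) ^ 4 - 1))
    (hL : Fintype.card L = 64) {N : Subgroup O} (hN : ∀ g : O, g ^ 2 ∈ N)
    {θ : N →* Matrix.ProjectiveSpecialLinearGroup (Fin 2) L} (hθ : Function.Injective θ) {R : Subgroup O}
    (h63 : ∃ x ∈ R, orderOf x = 63) (h65 : ∃ x ∈ R, orderOf x = 65) (h4 : ∃ x ∈ R, orderOf x = 4) : R = ⊤ := by
  have hchar := char_two_of_card hL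
  have hodd : ∀ (x : O) (n : ℕ), x ^ (2 * n + 1) = 1 → x ∈ N := by
    intro x n hx
    have h1 : x = (x ^ 2) ^ (n + 1) := by
      rw [← pow_mul, show 2 * (n + 1) = (2 * n + 1) + 1 by ring, pow_succ, hx, one_mul]
    rw [h1]
    exact N.pow_mem (hN x) _
  obtain ⟨x, hxR, hx⟩ := h63
  obtain ⟨y, hyR, hy⟩ := h65
  obtain ⟨u, huR, hu⟩ := h4
  have hxN : x ∈ N := hodd x 31 (by have := pow_orderOf_eq_one x; rwa [hx] at this)
  have hyN : y ∈ N := hodd y 32 (by have := pow_orderOf_eq_one y; rwa [hy] at this)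
  have hu2 : orderOf (u ^ 2) = 2 := by rw [orderOf_pow_of_dvd two_ne_zero (by rw [hu]; norm_num), hu]
  set R0 : Subgroup O := R ⊓ N with hR0
  have hmem : ∀ z ∈ R0, orderOf z ∣ Nat.card R0 := by
    intro z hz
    rw [← Subgroup.orderOf_mk z hz]
    exact orderOf_dvd_natCard _
  have hd : 8190 ∣ Nat.card R0 := by
    have h1 : 63 ∣ Nat.card R0 := hx ▸ hmem x ⟨hxR, hxN⟩
    have h2 : 65 ∣ Nat.card R0 := hy ▸ hmem y ⟨hyR, hyN⟩
    have h3 : 2 ∣ Nat.card R0 := hu2 ▸ hmem (u ^ 2) ⟨R.pow_mem huR 2, hN u⟩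
    have h4 : 63 * 65 ∣ Nat.card R0 := Nat.Coprime.mul_dvd_of_dvd_of_dvd (by norm_num) h1 h2
    exact Nat.Coprime.mul_dvd_of_dvd_of_dvd (m := 2) (n := 4095) (by norm_num) h3 h4
  -- the image
  have hR0N : R0 ≤ N := inf_le_right
  set θ' : R0 →* Matrix.ProjectiveSpecialLinearGroup (Fin 2) L := θ.comp (Subgroup.inclusion hR0N) with hθ'
  have hinj : Function.Injective θ' := hθ.comp (Subgroup.inclusion_injective hR0N)
  have hcR : Nat.card θ'.range = Nat.card R0 := (Nat.card_congr (MonoidHom.ofInjective hinj).toEquiv).symm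
  have hcP : Nat.card (Matrix.ProjectiveSpecialLinearGroup (Fin 2) L) = 262080 := by
    have h1 := Cfsg.Agent.ClassicalGeometry.PSL2Basic.card_PSL2_even (F := L) (by rw [hL]; decide)
    rw [h1, hL]
    norm_num
  have htop : θ'.range = ⊤ := by
    by_contra hne
    have h1 := (Cfsg.Agent.S0806.result (F := L) hL (by norm_num)).1 _ hne
    have h2 := Subgroup.card_mul_index θ'.range
    rw [hcP, hcR] at h2
    obtain ⟨c, hc⟩ := hd
    rw [hc, mul_assoc] at h2
    have h3 : c * θ'.range.index = 32 := by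
      have : 8190 * (c * θ'.range.index) = 8190 * 32 := by rw [h2]
      exact Nat.eq_of_mul_eq_mul_left (by norm_num) this
    have h4 : θ'.range.index ∣ 32 := ⟨c, by rw [← h3, mul_comm]⟩
    have := Nat.le_of_dvd (by norm_num) h4
    omega
  have hc0 : Nat.card R0 = 262080 := by rw [← hcR, htop, Subgroup.card_top, hcP]
  have huN : u ∉ N := by
    intro h
    have h1 : (θ ⟨u, h⟩) ^ 4 = 1 := by
      rw [← map_pow]
      have : (⟨u, h⟩ : N) ^ 4 = 1 := by
        apply Subtype.ext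
        show u ^ 4 = 1
        rw [← hu, pow_orderOf_eq_one]
      rw [this, map_one]
    have h2 := psl_no_four h1
    rw [← map_pow, ← map_one θ] at h2
    have h3 := congrArg Subtype.val (hθ h2)
    have h4 : u ^ 2 = 1 := h3
    rw [h4, orderOf_one] at hu2
    omega
  -- `|R| ≥ 2 |R0|`
  have hlt : R0 < R := lt_of_le_of_ne inf_le_left (fun h => huN (h ▸ huR : u ∈ R0).2)
  have h5 : 2 * Nat.card R0 ≤ Nat.card R := by
    obtain ⟨c, hc⟩ := Subgroup.card_dvd_of_le hlt.le
    have hpos : 0 < Nat.card R := Nat.card_pos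
    rcases Nat.lt_or_ge c 2 with h | h
    · exfalso
      have : c = 1 := by
        rcases Nat.eq_zero_or_pos c with h0 | h0
        · rw [h0, mul_zero] at hc
          omega
        · omega
      rw [this, mul_one] at hc
      exact hlt.ne (Subgroup.eq_of_le_of_card_ge hlt.le hc.le)
    · rw [hc, mul_comm]
      exact Nat.mul_le_mul_left _ h
  apply Subgroup.eq_top_of_le_card
  have h6 := Nat.le_of_dvd (by norm_num) hO
  rw [hc0] at h5
  norm_num at h6
  omega

end abstract_part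

section ext

variable {F : Type} [Field F] [Fintype F]

local notation "I4" => (Fin 2 ⊕ Fin 2)

/-- **the centraliser of a quadratic field in `Sp_4(q)` embeds into `SL_2(q²)`.** -/
theorem ext_hom {K : Subalgebra F (Matrix I4 I4 F)} (hK : IsFieldSubalgebra 2 K)
    (hsa : IsSelfAdjointFor (sympForm 2 F) K) (halt : ∀ k ∈ K, ∀ v, sympForm 2 F (k *ᵥ v) v = 0)
    {C : Subgroup (GL I4 F)} (hC : C ≤ spGL 2 F) (hCK : ∀ c ∈ C, ∀ k ∈ K, (c : Matrix I4 I4 F) * k = k * c) :
    ∃ (L : Type) (_ : Field L) (_ : Fintype L), Fintype.card L = Fintype.card F ^ 2 ∧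
      ∃ ρ : C →* Matrix.SpecialLinearGroup (Fin 2) L, Function.Injective ρ := by
  classical
  obtain ⟨L, hLf, hLa, φ, hφ, hfin⟩ := Cfsg.Agent.H954.FieldSub.exists_field hK
  have hφK : ∀ a, φ a ∈ K := by
    intro a
    rw [← hφ]
    exact ⟨a, rfl⟩
  have hfd : FiniteDimensional F L := FiniteDimensional.of_finrank_pos (by rw [hfin]; norm_num)
  have hLfin : Finite L := Module.finite_of_finite F
  have hLft : Fintype L := Fintype.ofFinite L
  have hLc : Fintype.card L = Fintype.card F ^ 2 := by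
    rw [← Nat.card_eq_fintype_card, Module.natCard_eq_pow_finrank (K := F), hfin, Nat.card_eq_fintype_card]
  refine ⟨L, hLf, hLft, hLc, ?_⟩
  let act : L →+* Module.End F (I4 → F) :=
    ((Matrix.toLinAlgEquiv' : Matrix I4 I4 F ≃ₐ[F] Module.End F (I4 → F)).toAlgHom.comp φ).toRingHom
  let _ : Module L (I4 → F) := Module.compHom (I4 → F) act
  have hsmul : ∀ (a : L) (v : I4 → F), a • v = φ a *ᵥ v := fun _ _ => rfl
  have htow : IsScalarTower F L (I4 → F) := ⟨fun c a v => by
    rw [hsmul, hsmul, map_smul, Matrix.smul_mulVec]⟩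
  have hrank : Module.finrank L (I4 → F) = 2 := by
    have h1 := Module.finrank_mul_finrank F L (I4 → F)
    rw [hfin, Module.finrank_fintype_fun_eq_card] at h1
    simp only [Fintype.card_sum, Fintype.card_fin] at h1
    omega
  have hfL : Module.Finite L (I4 → F) := Module.finite_of_finrank_pos (by rw [hrank]; norm_num)
  let b : Basis (Fin 2) L (I4 → F) := Module.finBasisOfFinrankEq L (I4 → F) hrank
  let lin : C → ((I4 → F) →ₗ[L] (I4 → F)) := fun g =>
    { toFun := fun v => ((g : GL I4 F) : Matrix I4 I4 F) *ᵥ v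
      map_add' := fun u v => Matrix.mulVec_add _ u v
      map_smul' := fun a v => by
        rw [hsmul, RingHom.id_apply, hsmul, mulVec_mulVec, mulVec_mulVec, hCK g g.2 _ (hφK a)] }
  have hlin_mul : ∀ g h : C, lin (g * h) = lin g * lin h := by
    intro g h
    refine LinearMap.ext fun v => ?_
    show ((g : GL I4 F) * (h : GL I4 F) : GL I4 F).1 *ᵥ v = (g : GL I4 F).1 *ᵥ ((h : GL I4 F).1 *ᵥ v)
    rw [mulVec_mulVec]
    rfl
  have hlin_one : lin 1 = 1 := by
    refine LinearMap.ext fun v => ?_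
    show ((1 : GL I4 F) : Matrix I4 I4 F) *ᵥ v = v
    rw [Units.val_one, one_mulVec]
  -- the form
  have hB1 : ∀ (k a : L) (x y : I4 → F), sympForm 2 F (φ k *ᵥ x) (a • y) = sympForm 2 F (φ (k * a) *ᵥ x) y := by
    intro k a x y
    rw [hsmul, ← hsa _ (hφK a), mulVec_mulVec, ← map_mul, mul_comm a k]
  have hB2 : ∀ (k a : L) (x y : I4 → F), sympForm 2 F (φ k *ᵥ (a • x)) y = sympForm 2 F (φ (k * a) *ᵥ x) y := by
    intro k a x y
    rw [hsmul, mulVec_mulVec, ← map_mul]
  have hB3 : ∀ (k : L) (x : I4 → F), sympForm 2 F (φ k *ᵥ x) x = 0 := fun k x => halt _ (hφK k) x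
  have hB4 : ∀ (k : L) (x y : I4 → F), sympForm 2 F (φ k *ᵥ y) x = - sympForm 2 F (φ k *ᵥ x) y := by
    intro k x y
    rw [sympForm_swap (φ k *ᵥ y) x, ← hsa _ (hφK k)]
  have hdet : ∀ g : C, (LinearMap.toMatrix b b (lin g)).det = 1 := by
    intro g
    set M := LinearMap.toMatrix b b (lin g) with hM
    have hcol : ∀ j, ((g : GL I4 F) : Matrix I4 I4 F) *ᵥ (b j) = M 0 j • b 0 + M 1 j • b 1 := by
      intro j
      have h1 := b.sum_repr (lin g (b j))
      rw [Fin.sum_univ_two] at h1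
      rw [hM, LinearMap.toMatrix_apply, LinearMap.toMatrix_apply]
      exact h1.symm
    have hgsp : (g : GL I4 F) ∈ spGL 2 F := hC g.2
    have key : ∀ k : L, sympForm 2 F (φ (k * M.det) *ᵥ (b 0)) (b 1) = sympForm 2 F (φ k *ᵥ (b 0)) (b 1) := by
      intro k
      have h1 : sympForm 2 F (φ k *ᵥ (b 0)) (b 1) =
          sympForm 2 F (φ k *ᵥ (M 0 0 • b 0 + M 1 0 • b 1)) (M 0 1 • b 0 + M 1 1 • b 1) := by
        rw [← hcol, ← hcol, mulVec_mulVec, ← hCK g g.2 _ (hφK k), ← mulVec_mulVec]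
        exact (mem_spGL_iff.1 hgsp _ _).symm
      have e : ∀ (a c : L) (x y : I4 → F), sympForm 2 F (φ k *ᵥ (a • x)) (c • y) =
          sympForm 2 F (φ (k * c * a) *ᵥ x) y := by
        intro a c x y
        rw [hB1, hB2]
      have e01 : sympForm 2 F (φ k *ᵥ (M 1 0 • b 1)) (M 0 1 • b 0) =
          - sympForm 2 F (φ (k * M 0 1 * M 1 0) *ᵥ b 0) (b 1) := by
        rw [e, hB4]
      have e00 : sympForm 2 F (φ k *ᵥ (M 0 0 • b 0)) (M 0 1 • b 0) = 0 := by rw [e, hB3]
      have e11 : sympForm 2 F (φ k *ᵥ (M 1 0 • b 1)) (M 1 1 • b 1) = 0 := by rw [e, hB3]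
      have e10 := e (M 0 0) (M 1 1) (b 0) (b 1)
      have h2 : φ (k * M.det) = φ (k * M 1 1 * M 0 0) - φ (k * M 0 1 * M 1 0) := by
        rw [← map_sub]
        congr 1
        rw [det_fin_two]
        ring
      rw [h1, mulVec_add, sympForm_add_left, sympForm_add_right, sympForm_add_right, e00, e11, e01, e10,
        h2, sub_mulVec, sympForm_sub_left]
      ring
    by_contra hne
    have hne' : M.det - 1 ≠ 0 := sub_ne_zero.2 hne
    have hall : ∀ k : L, sympForm 2 F (φ k *ᵥ (b 0)) (b 1) = 0 := by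
      intro k
      have h1 := key (k / (M.det - 1))
      have h2 : φ k = φ (k / (M.det - 1) * M.det) - φ (k / (M.det - 1)) := by
        rw [← map_sub]
        congr 1
        field_simp
      rw [h2, sub_mulVec, sympForm_sub_left, h1, sub_self]
    have h0 : b 0 = 0 := by
      apply eq_zero_of_forall_sympForm_right
      intro y
      rw [← b.sum_repr y, Fin.sum_univ_two]
      have e1 : sympForm 2 F (b 0) (b.repr y 0 • b 0) = 0 := by
        have := hB1 1 (b.repr y 0) (b 0) (b 0)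
        rw [map_one, one_mulVec] at this
        rw [this, hB3]
      have e2 : sympForm 2 F (b 0) (b.repr y 1 • b 1) = 0 := by
        have := hB1 1 (b.repr y 1) (b 0) (b 1)
        rw [map_one, one_mulVec] at this
        rw [this, hall]
      rw [sympForm_add_right, e1, e2, add_zero]
    exact b.ne_zero 0 h0
  refine ⟨{ toFun := fun g => ⟨LinearMap.toMatrix b b (lin g), hdet g⟩
            map_one' := by
              apply Subtype.ext
              show LinearMap.toMatrix b b (lin 1) = 1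
              rw [hlin_one]
              exact LinearMap.toMatrix_id b
            map_mul' := fun g h => by
              apply Subtype.ext
              show LinearMap.toMatrix b b (lin (g * h)) = LinearMap.toMatrix b b (lin g) * LinearMap.toMatrix b b (lin h)
              rw [hlin_mul]
              exact LinearMap.toMatrix_mul b _ _ }, ?_⟩
  intro g h hgh
  have h1 : LinearMap.toMatrix b b (lin g) = LinearMap.toMatrix b b (lin h) := congrArg Subtype.val hgh
  have h2 := (LinearMap.toMatrix b b).injective h1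
  apply Subtype.ext
  apply Units.ext
  apply Matrix.toLin'.injective
  refine LinearMap.ext fun v => ?_
  exact LinearMap.congr_fun h2 v

end ext

section data

variable {F : Type} [Field F] [Fintype F]

local notation "I4" => (Fin 2 ⊕ Fin 2)

/-- the group-theoretic data used by `eq_top_of`. -/
def Data (O : Subgroup (GL I4 F)) : Prop :=
  Nat.card O ∣ 2 * (2 ^ 3) ^ 2 * ((2 ^ 3) ^ 4 - 1) ∧ ∃ (L : Type) (_ : Field L) (_ : Fintype L) (N : Subgroup O)
    (θ : N →* Matrix.ProjectiveSpecialLinearGroup (Fin 2) L), Fintype.card L = 64 ∧ (∀ g : O, g ^ 2 ∈ N) ∧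
      Function.Injective θ

open Cfsg.Agent.LieClassical.OrthFourCommon Cfsg.Agent.LieClassical.OrthFourMinus in
theorem data_minus (h8 : Fintype.card F = 8) {Q : QuadraticForm F (I4 → F)}
    (hnd : Cfsg.Agent.LieClassical.OrthCore.Nondeg Q) (hnP : ¬ Cfsg.Agent.H955.IsPlus Q) : Data (Cfsg.isometryGroup F (⇑Q)) := by
  have hι : Fintype.card (Fin 2 ⊕ Fin 2) = 4 := by simp
  have hcardO : Nat.card (Cfsg.isometryGroup F (⇑Q)) = 524160 := by
    rw [Cfsg.Agent.H957.card_isometryGroup_minus Q hnd (m := 2) (by norm_num) hι hnP, h8]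
    norm_num
  obtain ⟨a, b, hab⟩ := Cfsg.Agent.H955.exists_aniso_coeff F
  obtain ⟨e, he⟩ := Cfsg.Agent.H955.exists_minus_equiv hab 1 Q hnd
    (by rw [Module.finrank_fintype_fun_eq_card, hι]) hnP
  have hfact : Fact (∀ r : F, r ^ 2 ≠ -b + a * r) := ⟨fun r hr => by
    have := (hab (-r) 1 (by linear_combination hr)).2
    exact one_ne_zero this⟩
  let _ : Fintype (E F (-b) a) := Fintype.ofEquiv _ (QuadraticAlgebra.equivProd (-b) a).symm
  have hcard : Fintype.card (E F (-b) a) = 64 := by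
    rw [Fintype.card_congr (QuadraticAlgebra.equivProd (-b) a), Fintype.card_prod, h8]
  have hchar : CharP (E F (-b) a) 2 := char_two_of_card hcard
  obtain ⟨ε⟩ := exists_isometryGroup_equiv (e.trans (coord F (-b) a)) (⇑Q)
    (Cfsg.Agent.LieClassical.OrthFourMinus.Q (-b) a) (fun v => by
      rw [LinearEquiv.trans_apply, Q_coord, ← he, Cfsg.Agent.LieClassical.QuadForms.coe_minusForm])
  have hinj : Function.Injective (phi (F := F) (c := -b) (d := a)) := by
    rw [injective_iff_map_eq_one]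
    intro s hs
    have h1 := mem_center_of_phi_eq_one hs
    apply mk_injective
    rw [map_one, QuotientGroup.mk'_apply, QuotientGroup.eq_one_iff]
    exact h1
  obtain ⟨ψ, hψ⟩ : ∃ ψ : Matrix.SpecialLinearGroup (Fin 2) (E F (-b) a) →* Cfsg.isometryGroup F (⇑Q),
      Function.Injective ψ := ⟨ε.symm.toMonoidHom.comp phi, ε.symm.injective.comp hinj⟩
  refine ⟨by rw [hcardO]; norm_num, E F (-b) a, inferInstance, inferInstance, ψ.range,
    (QuotientGroup.mk' (Subgroup.center (Matrix.SpecialLinearGroup (Fin 2) (E F (-b) a)))).comp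
      (MonoidHom.ofInjective hψ).symm.toMonoidHom, hcard, ?_, mk_injective.comp (MonoidHom.ofInjective hψ).symm.injective⟩
  have h1 : Nat.card ψ.range = 262080 := by
    rw [← Nat.card_congr (MonoidHom.ofInjective hψ).toEquiv, Cfsg.Agent.ClassicalGeometry.PSL2Basic.card_SL2, hcard]
    norm_num
  have h2 := Subgroup.card_mul_index ψ.range
  rw [h1, hcardO] at h2
  have h3 : ψ.range.index = 2 := by omega
  exact fun g => Subgroup.sq_mem_of_index_two h3 g

theorem data_ext [CharP F 2] (h8 : Fintype.card F = 8) {K : Subalgebra F (Matrix I4 I4 F)} (hK : IsFieldSubalgebra 2 K)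
    (hsa : IsSelfAdjointFor (sympForm 2 F) K) (halt : ∀ k ∈ K, ∀ v, sympForm 2 F (k *ᵥ v) v = 0) :
    Data (subalgebraNormalizer K ⊓ spGL 2 F) := by
  have h1 := Cfsg.Agent.H813.SaxSp.card_field hK hsa halt
  rw [h8] at h1
  refine ⟨h1, ?_⟩
  obtain ⟨C, hC⟩ : ∃ C : Subgroup (GL I4 F), ∀ g : GL I4 F, g ∈ C ↔
      g ∈ spGL 2 F ∧ ∀ k ∈ K, (g : Matrix I4 I4 F) * k = k * g := by
    refine ⟨{ carrier := {g | g ∈ spGL 2 F ∧ ∀ k ∈ K, (g : Matrix I4 I4 F) * k = k * g}
              mul_mem' := ?_, one_mem' := ?_, inv_mem' := ?_ }, fun g => Iff.rfl⟩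
    · rintro g h ⟨hg1, hg2⟩ ⟨hh1, hh2⟩
      refine ⟨Subgroup.mul_mem _ hg1 hh1, fun k hk => ?_⟩
      rw [Units.val_mul, Matrix.mul_assoc, hh2 k hk, ← Matrix.mul_assoc, hg2 k hk, Matrix.mul_assoc]
    · exact ⟨Subgroup.one_mem _, fun k _ => by rw [Units.val_one, Matrix.one_mul, Matrix.mul_one]⟩
    · rintro g ⟨hg1, hg2⟩
      refine ⟨Subgroup.inv_mem _ hg1, fun k hk => ?_⟩
      have h3 : (g : Matrix I4 I4 F) * k = k * g := hg2 k hk
      calc ((g⁻¹ : GL I4 F) : Matrix I4 I4 F) * k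
          = ((g⁻¹ : GL I4 F) : Matrix I4 I4 F) * (k * g) * ((g⁻¹ : GL I4 F) : Matrix I4 I4 F) := by
            rw [Matrix.mul_assoc, Matrix.mul_assoc, ← Units.val_mul, mul_inv_cancel, Units.val_one, Matrix.mul_one]
        _ = ((g⁻¹ : GL I4 F) : Matrix I4 I4 F) * (g * k) * ((g⁻¹ : GL I4 F) : Matrix I4 I4 F) := by rw [h3]
        _ = k * ((g⁻¹ : GL I4 F) : Matrix I4 I4 F) := by
            rw [← Matrix.mul_assoc ((g⁻¹ : GL I4 F) : Matrix I4 I4 F), ← Units.val_mul, inv_mul_cancel, Units.val_one,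
              Matrix.one_mul]
  obtain ⟨L, hLf, hLft, hL, ρ, hρ⟩ := ext_hom hK hsa halt (C := C) (fun g hg => ((hC g).1 hg).1)
    (fun g hg => ((hC g).1 hg).2)
  have hL64 : Fintype.card L = 64 := by rw [hL, h8]; norm_num
  have hchar : CharP L 2 := char_two_of_card hL64
  refine ⟨L, hLf, hLft, C.subgroupOf (subalgebraNormalizer K ⊓ spGL 2 F),
    ((QuotientGroup.mk' (Subgroup.center (Matrix.SpecialLinearGroup (Fin 2) L))).comp ρ).comp
      (((subalgebraNormalizer K ⊓ spGL 2 F).subtype.comp (Subgroup.subtype _)).codRestrict C (fun x => x.2)),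
    hL64, ?_, ?_⟩
  · intro g
    rw [Subgroup.mem_subgroupOf, hC]
    refine ⟨Subgroup.pow_mem _ g.2.2 2, fun k hk => ?_⟩
    exact sq_comm hK g.2.1 k hk
  · refine (mk_injective.comp hρ).comp ?_
    intro x y hxy
    apply Subtype.ext
    apply Subtype.ext
    exact congrArg (fun z : C => (z : GL I4 F)) hxy

/-- **proper subgroups of `SL_2(64).2` in `PSp_4(8)`.** -/
theorem eight_sub [CharP F 2] (h8 : Fintype.card F = 8) {M : Subgroup (PSp 2 F)}
    (h : InOMinus 2 F (pre M) ∨ InExt 2 F (pre M)) {R : Subgroup (PSp 2 F)} (hRM : R ≤ M)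
    (h63 : ∃ x ∈ R, orderOf x = 63) (h65 : ∃ x ∈ R, orderOf x = 65) (h4 : ∃ x ∈ R, orderOf x = 4) : R = M := by
  obtain ⟨O, hMO, hO⟩ : ∃ O : Subgroup (GL I4 F), pre M ≤ O ∧ Data O := by
    rcases h with ⟨-, -, Q, hpol, hnP, hQe⟩ | ⟨-, K, hK, hsa, halt, hKe⟩
    · have hnd : Cfsg.Agent.LieClassical.OrthCore.Nondeg Q := by
        intro x hx
        apply eq_zero_of_forall_sympForm_right
        intro y
        rw [← hpol]
        exact hx y
      exact ⟨_, hQe, data_minus h8 hnd hnP⟩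
    · exact ⟨_, le_inf hKe (pre_le M), data_ext h8 hK hsa halt⟩
  obtain ⟨hcard, L, _, _, N, θ, hL, hN, hθ⟩ := hO
  have hRO : pre R ≤ O := (Cfsg.Agent.H262.El.pre_mono hRM).trans hMO
  have hfin : Finite O := inferInstance
  let e := Cfsg.Agent.GpSp.Row.toPSp F 2
  have key : ∀ n : ℕ, (∃ x ∈ R, orderOf x = n) → ∃ x ∈ (pre R).subgroupOf O, orderOf x = n := by
    rintro n ⟨x, hx, hn⟩
    have hmem : spToGL 2 F (e.symm x) ∈ pre R := by
      rw [mem_pre]
      have : (QuotientGroup.mk (e.symm x) : PSp 2 F) = e (e.symm x) := rfl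
      rw [this, MulEquiv.apply_symm_apply]
      exact hx
    refine ⟨⟨spToGL 2 F (e.symm x), hRO hmem⟩, hmem, ?_⟩
    rw [Subgroup.orderOf_mk, orderOf_injective _ spToGL_injective, MulEquiv.orderOf_eq, hn]
  have htop := eq_top_of hcard hL hN hθ (key 63 h63) (key 65 h65) (key 4 h4)
  rw [Subgroup.subgroupOf_eq_top] at htop
  refine le_antisymm hRM fun x hx => ?_
  have h1 : spToGL 2 F (e.symm x) ∈ pre M := by
    rw [mem_pre]
    have : (QuotientGroup.mk (e.symm x) : PSp 2 F) = e (e.symm x) := rfl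
    rw [this, MulEquiv.apply_symm_apply]
    exact hx
  have h2 := htop (hMO h1)
  rw [mem_pre] at h2
  have h3 : (QuotientGroup.mk (e.symm x) : PSp 2 F) = e (e.symm x) := rfl
  rwa [h3, MulEquiv.apply_symm_apply] at h2

end data

end Cfsg.Agent.H580.Der.Eight
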