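import Cfsg.Agent.H580.Der.EvenQ
import Cfsg.Agent.H896.Der4.Even

/-!
# `PSp_4(q)`, `q ≥ 8` even: missing classes of maximal subgroups (helper580, for S3502)
-/

set_option autoImplicit false

namespace Cfsg.Agent.H580.Der.EvenM

open Module Cfsg Cfsg.Geo Cfsg.Agent.H884.El Matrix
open Cfsg.Agent.H262.El (pre pre_le pre_ne scalars_le_pre mem_pre spToGL_injective two_le_of_symp)
open Cfsg.Agent.ClassicalGeometry.SympBasic Cfsg.Agent.H876 Cfsg.Agent.H931
open Cfsg.Agent.H938.Sax (PGap OrdGap OGMax)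
open Cfsg.Agent.H374.SpFour Cfsg.Agent.H374.Quad Cfsg.Agent.H901.SaxSp Cfsg.Agent.H439.Der Cfsg.Agent.H896.Der4
open Cfsg.Agent.H580.Der.EvenQ
open scoped MatrixGroups Matrix

section num

theorem split {q : ℕ} (hq : 1 ≤ q) : q ^ 4 - 1 = (q - 1) * (q + 1) * (q ^ 2 + 1) := by
  obtain ⟨c, rfl⟩ : ∃ c, q = c + 1 := ⟨q - 1, by omega⟩
  have : (c + 1) ^ 4 = c * (c + 1 + 1) * ((c + 1) ^ 2 + 1) + 1 := by ring
  rw [this]
  simp

/-- the `r`-part of the order. -/
theorem not_dvd_card {f e e' r a N : ℕ} (hf : 1 ≤ f) (hee : (e = 2 ^ f - 1 ∧ e' = 2 ^ f + 1) ∨ (e = 2 ^ f + 1 ∧ e' = 2 ^ f - 1))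
    (hr : r.Prime) (hr2 : r ≠ 2) (hre : r ∣ e) (ha : ¬ r ^ (a + 1) ∣ e)
    (hN : N ∣ 2 * (2 ^ f) ^ 2 * ((2 ^ f) ^ 4 - 1)) : ¬ r ^ (a + 1) ∣ N := by
  intro h
  have h1 := h.trans hN
  obtain ⟨q, hq⟩ : ∃ q, q = 2 ^ f := ⟨_, rfl⟩
  have hq2 : 2 ≤ q := by rw [hq]; calc 2 = 2 ^ 1 := by norm_num
                          _ ≤ _ := Nat.pow_le_pow_right (by norm_num) hf
  have hprod : (q - 1) * (q + 1) = e * e' := by rw [hq]; rcases hee with ⟨h1, h2⟩ | ⟨h1, h2⟩ <;> rw [h1, h2]; ring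
  have c2 : Nat.Coprime r 2 := (Nat.coprime_primes hr Nat.prime_two).2 hr2
  have cq : Nat.Coprime r q := by rw [hq]; exact c2.pow_right f
  have ce' : Nat.Coprime r e' := by
    refine (Nat.Prime.coprime_iff_not_dvd hr).2 fun h2 => hr2 ?_
    have h3 : r ∣ 2 := by
      rcases hee with ⟨h4, h5⟩ | ⟨h4, h5⟩
      · have := Nat.dvd_sub h2 hre
        rwa [h4, h5, ← hq, show q + 1 - (q - 1) = 2 by omega] at this
      · have := Nat.dvd_sub hre h2
        rwa [h4, h5, ← hq, show q + 1 - (q - 1) = 2 by omega] at this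
    exact (Nat.prime_dvd_prime_iff_eq hr Nat.prime_two).1 h3
  have cq1 : Nat.Coprime r (q ^ 2 + 1) := by
    refine (Nat.Prime.coprime_iff_not_dvd hr).2 fun h2 => hr2 ?_
    have h3 : r ∣ q ^ 2 - 1 := by
      rw [Cfsg.Agent.H374.Quad.sq_sub_one q (by omega), hprod]
      exact hre.mul_right _
    have h4 := Nat.dvd_sub h2 h3
    have h5 : 1 ≤ q ^ 2 := Nat.one_le_pow _ _ (by omega)
    rw [show q ^ 2 + 1 - (q ^ 2 - 1) = 2 by omega] at h4
    exact (Nat.prime_dvd_prime_iff_eq hr Nat.prime_two).1 h4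
  rw [← hq, split (by omega), hprod, show 2 * q ^ 2 * (e * e' * (q ^ 2 + 1)) = e * (2 * q ^ 2 * e' * (q ^ 2 + 1)) by ring]
    at h1
  refine ha (Nat.Coprime.dvd_of_dvd_mul_right ?_ h1)
  apply Nat.Coprime.pow_left
  exact ((c2.mul_right (cq.pow_right 2)).mul_right ce').mul_right cq1

/-- a prime divisor different from three. -/
theorem exists_prime_ne_three {e : ℕ} (h1 : e ≠ 0) (h3 : ∀ k, e ≠ 3 ^ k) : ∃ r, r.Prime ∧ r ≠ 3 ∧ r ∣ e := by
  by_contra hcon
  push Not at hcon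
  have h2 := Nat.eq_prime_pow_of_unique_prime_dvd (n := e) (p := 3) h1 (fun {d} hd hdn => by
    by_contra h
    exact hcon d hd h hdn)
  exact h3 _ h2

theorem two_pow_ne {f : ℕ} (hf : 4 ≤ f) (k : ℕ) : 2 ^ f - 1 ≠ 3 ^ k ∧ 2 ^ f + 1 ≠ 3 ^ k := by
  obtain ⟨g, rfl⟩ : ∃ g, f = 4 + g := ⟨f - 4, by omega⟩
  have h80 : 3 ^ k % 80 = 1 ∨ 3 ^ k % 80 = 3 ∨ 3 ^ k % 80 = 9 ∨ 3 ^ k % 80 = 27 := by
    induction k with
    | zero => left; norm_num
    | succ k ih => rw [pow_succ]; omega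
  have h16 : 2 ^ (4 + g) = 16 * 2 ^ g := by rw [pow_add]; norm_num
  have hpos : 1 ≤ 2 ^ g := Nat.one_le_two_pow
  have h5 : ¬ 5 ∣ 2 ^ g := fun h => by
    have := Nat.Prime.dvd_of_dvd_pow (by norm_num) h
    omega
  rw [h16]
  constructor
  · omega
  · intro h
    omega

end num

variable {F : Type} [Field F] [Fintype F] [CharP F 2]

/-- **three missing classes** -/
theorem three_of_card {f : ℕ} (hf : 4 ≤ f) (hF : Fintype.card F = 2 ^ f)
    {M : Subgroup (Matrix.symplecticGroup (Fin 2) F)} (hM : Nat.card M ∣ 2 * (2 ^ f) ^ 2 * ((2 ^ f) ^ 4 - 1)) :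
    Three (Matrix.symplecticGroup (Fin 2) F) M := by
  obtain ⟨q, hq⟩ : ∃ q, q = 2 ^ f := ⟨_, rfl⟩
  have hq16 : 16 ≤ q := by
    rw [hq]
    calc 16 = 2 ^ 4 := by norm_num
      _ ≤ _ := Nat.pow_le_pow_right (by norm_num) hf
  have heven : Even q := by rw [hq]; exact Even.pow_of_ne_zero even_two (by omega)
  obtain ⟨e, e', hee, h3e⟩ : ∃ e e', ((e = 2 ^ f - 1 ∧ e' = 2 ^ f + 1) ∨ (e = 2 ^ f + 1 ∧ e' = 2 ^ f - 1)) ∧ 3 ∣ e := by
    have h3 : ¬ 3 ∣ q := fun h => by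
      rw [hq] at h
      have := Nat.prime_three.dvd_of_dvd_pow h
      omega
    by_cases h : 3 ∣ 2 ^ f - 1
    · exact ⟨_, _, Or.inl ⟨rfl, rfl⟩, h⟩
    · exact ⟨_, _, Or.inr ⟨rfl, rfl⟩, by omega⟩
  have he16 : 15 ≤ e ∧ 15 ≤ e' := by omega
  have heo : Odd e ∧ Odd e' := by
    rw [← hq] at hee
    obtain ⟨k, hk⟩ := heven
    rcases hee with ⟨h1, h2⟩ | ⟨h1, h2⟩
    · exact ⟨⟨k - 1, by omega⟩, ⟨k, by omega⟩⟩
    · exact ⟨⟨k, by omega⟩, ⟨k - 1, by omega⟩⟩
  have hcop : ∀ s : ℕ, s ∣ e → s ∣ e' → s ∣ 2 := by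
    intro s h1 h2
    rcases hee with ⟨h4, h5⟩ | ⟨h4, h5⟩
    · have := Nat.dvd_sub h2 h1
      rwa [h4, h5, ← hq, show q + 1 - (q - 1) = 2 by omega] at this
    · have := Nat.dvd_sub h1 h2
      rwa [h4, h5, ← hq, show q + 1 - (q - 1) = 2 by omega] at this
  have hee' : (e' = 2 ^ f - 1 ∧ e = 2 ^ f + 1) ∨ (e' = 2 ^ f + 1 ∧ e = 2 ^ f - 1) := by
    rcases hee with ⟨h1, h2⟩ | ⟨h1, h2⟩
    · exact Or.inr ⟨h2, h1⟩
    · exact Or.inl ⟨h2, h1⟩
  have hcard : ∀ n, (n ∣ e ∨ n ∣ e') → n ∣ Fintype.card F - 1 ∨ n ∣ Fintype.card F + 1 := by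
    intro n hn
    rw [hF]
    rcases hee with ⟨h1, h2⟩ | ⟨h1, h2⟩ <;> rw [h1, h2] at hn
    · exact hn
    · exact hn.symm
  -- the prime `r`
  obtain ⟨r, hr, hr3, hre⟩ := exists_prime_ne_three (e := e) (by omega) (fun k => by
    have := two_pow_ne hf k
    rcases hee with ⟨h1, h2⟩ | ⟨h1, h2⟩
    · rw [h1]; exact this.1
    · rw [h1]; exact this.2)
  have hr2 : r ≠ 2 := by
    rintro rfl
    exact (Nat.not_even_iff_odd.2 heo.1) (even_iff_two_dvd.2 hre)
  obtain ⟨a, ha⟩ : ∃ a, a = e.factorization r := ⟨_, rfl⟩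
  have ha1 : r ^ a ∣ e := by rw [ha]; exact Nat.ordProj_dvd _ _
  have ha2 : ¬ r ^ (a + 1) ∣ e := by rw [ha]; exact Nat.pow_succ_factorization_not_dvd (by omega) hr
  have ha0 : a ≠ 0 := by
    rintro rfl
    exact ha2 (by simpa using hre)
  have hr5 : 5 ≤ r := by
    have := hr.two_le
    have h4 : r ≠ 4 := by rintro rfl; exact absurd hr (by norm_num)
    omega
  have hra5 : 5 ≤ r ^ a := hr5.trans (Nat.le_self_pow ha0 r)
  -- the prime `s`
  obtain ⟨s, hs, hse⟩ := Nat.exists_prime_and_dvd (n := e') (by omega)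
  have hs2 : s ≠ 2 := by
    rintro rfl
    exact (Nat.not_even_iff_odd.2 heo.2) (even_iff_two_dvd.2 hse)
  have hs3 : s ≠ 3 := by
    rintro rfl
    have := Nat.le_of_dvd (by norm_num) (hcop 3 h3e hse)
    omega
  obtain ⟨b, hb⟩ : ∃ b, b = e'.factorization s := ⟨_, rfl⟩
  have hb1 : s ^ b ∣ e' := by rw [hb]; exact Nat.ordProj_dvd _ _
  have hb2 : ¬ s ^ (b + 1) ∣ e' := by rw [hb]; exact Nat.pow_succ_factorization_not_dvd (by omega) hs
  have hb0 : b ≠ 0 := by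
    rintro rfl
    exact hb2 (by simpa using hse)
  have hs5 : 5 ≤ s := by
    have := hs.two_le
    have h4 : s ≠ 4 := by rintro rfl; exact absurd hs (by norm_num)
    omega
  have hsb5 : 5 ≤ s ^ b := hs5.trans (Nat.le_self_pow hb0 s)
  have hse' : ¬ s ∣ e := fun h => hs2 ((Nat.prime_dvd_prime_iff_eq hs Nat.prime_two).1 (hcop s h hse))
  have h3ra : 3 * r ^ a ∣ e := by
    apply Nat.Coprime.mul_dvd_of_dvd_of_dvd _ h3e ha1
    apply Nat.Coprime.pow_right
    exact (Nat.coprime_primes Nat.prime_three hr).2 (Ne.symm hr3)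
  have p1 := P_of hr hr2 hra5 (M := M) (not_dvd_card (by omega) hee hr hr2 hre ha2 hM) (c := 1) odd_one
    (hcard _ (Or.inl (by rwa [one_mul])))
  have p2 := P_of hr hr2 hra5 (M := M) (not_dvd_card (by omega) hee hr hr2 hre ha2 hM) (c := 3) (by decide)
    (hcard _ (Or.inl h3ra))
  have p3 := P_of hs hs2 hsb5 (M := M) (not_dvd_card (by omega) hee' hs hs2 hse hb2 hM) (c := 1) odd_one
    (hcard _ (Or.inr (by rwa [one_mul])))
  have o1 : Odd (r ^ a) := (hr.odd_of_ne_two hr2).pow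
  have o2 : Odd (s ^ b) := (hs.odd_of_ne_two hs2).pow
  refine three_of_P (odd_one.mul o1) (Odd.mul (by decide) o1) (odd_one.mul o2) (by omega) ?_ ?_ p1 p2 p3
  · intro h
    rw [one_mul, one_mul] at h
    exact hse' ((dvd_pow_self s hb0).trans (h ▸ ha1))
  · intro h
    rw [one_mul] at h
    exact hse' ((dvd_pow_self s hb0).trans (h ▸ h3ra))

/-- **two missing classes**, `q = 8`. -/
theorem P_of_eight (hF : Fintype.card F = 8)
    {M : Subgroup (Matrix.symplecticGroup (Fin 2) F)} (hM : Nat.card M ∣ 2 * (2 ^ 3) ^ 2 * ((2 ^ 3) ^ 4 - 1)) :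
    P M 7 ∧ P M 9 := by
  have h1 := P_of (F := F) (M := M) (r := 7) (a := 1) (c := 1) (by norm_num) (by norm_num) (by norm_num)
    (fun h => absurd (h.trans hM) (by norm_num)) odd_one (Or.inl (by rw [hF]; norm_num))
  have h2 := P_of (F := F) (M := M) (r := 3) (a := 2) (c := 1) (by norm_num) (by norm_num) (by norm_num)
    (fun h => absurd (h.trans hM) (by norm_num)) odd_one (Or.inr (by rw [hF]; norm_num))
  norm_num at h1 h2
  exact ⟨h1, h2⟩

/-- the order of the exceptional subgroups. -/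
theorem card_exc {f : ℕ} (hf : 1 ≤ f) (hF : Fintype.card F = 2 ^ f) {M : Subgroup (PSp 2 F)}
    (h : InOMinus 2 F (pre M) ∨ InExt 2 F (pre M)) : Nat.card M ∣ 2 * (2 ^ f) ^ 2 * ((2 ^ f) ^ 4 - 1) := by
  have hι : Fintype.card (Fin 2 ⊕ Fin 2) = 4 := by simp
  refine (card_dvd_pre M).trans ?_
  rcases h with ⟨-, -, Q, hpol, hnP, hQe⟩ | ⟨-, K, hK, hsa, halt, hKe⟩
  · have hnd : Cfsg.Agent.LieClassical.OrthCore.Nondeg Q := by
      intro x hx
      apply eq_zero_of_forall_sympForm_right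
      intro y
      rw [← hpol]
      exact hx y
    refine (Subgroup.card_dvd_of_le hQe).trans ?_
    rw [Cfsg.Agent.H957.card_isometryGroup_minus Q hnd (m := 2) (by norm_num) hι hnP, hF]
    refine dvd_of_eq ?_
    have hq : 1 < (2 ^ f) ^ 2 := Nat.one_lt_pow (by norm_num) (Nat.one_lt_pow (by omega) (by norm_num))
    simp only [Nat.reduceSub, Finset.range_one, Finset.prod_singleton, zero_add, mul_one]
    obtain ⟨c, hc⟩ : ∃ c, (2 ^ f) ^ 2 = c + 1 := ⟨_, (Nat.sub_add_cancel hq.le).symm⟩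
    rw [show (2 ^ f) ^ 4 = ((2 ^ f) ^ 2) ^ 2 by ring, hc, Nat.add_sub_cancel]
    have : (c + 1) ^ 2 - 1 = (c + 1 + 1) * c := by
      have : (c + 1) ^ 2 = (c + 1 + 1) * c + 1 := by ring
      rw [this, Nat.add_sub_cancel]
    rw [this]
    ring
  · have h1 : pre M ≤ subalgebraNormalizer K ⊓ spGL 2 F := le_inf hKe (pre_le M)
    refine (Subgroup.card_dvd_of_le h1).trans ?_
    rw [← hF]
    exact Cfsg.Agent.H813.SaxSp.card_field hK hsa halt

/-- **maximal subgroups of `PSp_4(q)`, `q ≥ 8` even.** -/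
theorem three_or (h8 : 8 ≤ Fintype.card F) {M : Subgroup (PSp 2 F)} (hM : IsCoatom M) :
    Three (PSp 2 F) M ∨ (Fintype.card F = 8 ∧ (InOMinus 2 F (pre M) ∨ InExt 2 F (pre M))) := by
  have hntc := Cfsg.Agent.H580.Der.Ntc.ntc (F := F) (by omega)
  have hp2 : Fact (Nat.Prime 2) := ⟨Nat.prime_two⟩
  obtain ⟨N, hN3, hF⟩ : ∃ N : ℕ, 3 ≤ N ∧ Fintype.card F = 2 ^ N := by
    obtain ⟨n, -, hn⟩ := FiniteField.card F 2
    refine ⟨n, ?_, hn⟩
    by_contra hcon
    have h1 : (n : ℕ) ≤ 2 := by omega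
    have h2 := Nat.pow_le_pow_right (show 0 < 2 by norm_num) h1
    omega
  have heven : Even (2 ^ N) := Even.pow_of_ne_zero even_two (by omega)
  have hodd : ¬ Odd (Fintype.card F) := by rw [hF]; exact Nat.not_odd_iff_even.2 heven
  have hspec := exists_iff (F := F) (p := 2) (n := N) (by omega) hF (by omega)
  have exc : (InOMinus 2 F (pre M) ∨ InExt 2 F (pre M)) →
      Three (PSp 2 F) M ∨ (Fintype.card F = 8 ∧ (InOMinus 2 F (pre M) ∨ InExt 2 F (pre M))) := by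
    intro h
    rcases Nat.lt_or_ge N 4 with h4 | h4
    · right
      have : N = 3 := by omega
      exact ⟨by rw [hF, this]; norm_num, h⟩
    · left
      have hc := card_exc (F := F) (by omega) hF h
      have hcard : Nat.card (M.comap (Cfsg.Agent.GpSp.Row.toPSp F 2).toMonoidHom) = Nat.card M :=
        Nat.card_congr ((Cfsg.Agent.GpSp.Row.toPSp F 2).toEquiv.subtypeEquiv (fun _ => Iff.rfl))
      exact Three.congr (Cfsg.Agent.GpSp.Row.toPSp F 2) (three_of_card h4 hF (by rw [hcard]; exact hc))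
  rcases psp_cases (m := 2) le_rfl (by rintro ⟨-, h⟩; omega) (by omega) (fun _ => hodd) hM.1 with h | h | h | h
  · exact Or.inl (Three.of_pgap hntc h)
  · -- the Suzuki groups
    left
    obtain ⟨P, m, hcore, hm, hF', ⟨e⟩⟩ := S5791.result hodd (by omega) (pre M) (Cfsg.Agent.H901.SaxSp.isMaximalIn_pre hM) h
    have hNm : 2 ^ N = 2 ^ (2 * m + 1) := by rw [← hF, hF']
    have hdvd := Cfsg.Agent.H753.ResCard.card_dvd (Cfsg.Agent.H901.SaxSp.isMaximalIn_pre hM).1.le hcore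
    have hnot := sz_not_dvd hm hF' e
    rw [← hNm] at hnot
    obtain ⟨x, hx⟩ := (hspec (2 ^ N + 1)).2 (Or.inr (Or.inl (dvd_mul_left _ _)))
    obtain ⟨y, hy⟩ := (hspec (2 * (2 ^ N + 1))).2 (Or.inr (Or.inl dvd_rfl))
    obtain ⟨z, hz⟩ := (hspec ((2 ^ N - 1) * (2 ^ N + 1))).2 (Or.inr (Or.inr (Or.inl (by
      rw [gcd_of_even heven (by omega), Nat.div_one, Cfsg.Agent.H374.Quad.sq_sub_one _ (by omega)]))))
    have key : ∀ w ∈ M, 2 ^ N + 1 ∣ orderOf w → False := by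
      intro w hw hd
      apply hnot
      refine hd.trans (Dvd.dvd.trans ?_ hdvd)
      rw [← Subgroup.orderOf_mk w hw]
      exact (orderOf_dvd_natCard _).trans (card_dvd_pre M)
    have hq8 : 8 ≤ 2 ^ N := by rw [← hF]; exact h8
    refine Three.of_orders ?_ ?_ ?_ hx hy hz (fun w hw h => key w hw (by rw [h])) (fun w hw h => key w hw ?_)
      (fun w hw h => key w hw ?_)
    · omega
    · intro h
      have h1 : 2 * (2 ^ N + 1) ≤ (2 ^ N - 1) * (2 ^ N + 1) := Nat.mul_le_mul_right _ (by omega)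
      omega
    · intro h
      have h1 : 3 * (2 ^ N + 1) ≤ (2 ^ N - 1) * (2 ^ N + 1) := Nat.mul_le_mul_right _ (by omega)
      omega
    · rw [h]
      exact dvd_mul_left _ _
    · rw [h]
      exact dvd_mul_left _ _
  · exact exc (Or.inl h)
  · exact exc (Or.inr h)

/-- **`q = 8`**: the exceptional maximal subgroups are `Two`, and their subgroups without elements of order `4`, `63` or `65`
are `Three`. -/
theorem eight (h8 : Fintype.card F = 8) {M : Subgroup (PSp 2 F)} (h : InOMinus 2 F (pre M) ∨ InExt 2 F (pre M)) :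
    Two (PSp 2 F) M ∧ ∀ R ≤ M, (¬ ((∃ x ∈ R, orderOf x = 63) ∧ (∃ x ∈ R, orderOf x = 65) ∧ ∃ x ∈ R, orderOf x = 4)) →
      Three (PSp 2 F) R := by
  have hF : Fintype.card F = 2 ^ 3 := by rw [h8]; norm_num
  have hp2 : Fact (Nat.Prime 2) := ⟨Nat.prime_two⟩
  have hspec := exists_iff (F := F) (p := 2) (n := 3) (by norm_num) hF (by norm_num)
  have hc := card_exc (F := F) (by norm_num) hF h
  let e := Cfsg.Agent.GpSp.Row.toPSp F 2
  have hcard : ∀ R : Subgroup (PSp 2 F), Nat.card (R.comap e.toMonoidHom) = Nat.card R := fun R =>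
    Nat.card_congr (e.toEquiv.subtypeEquiv (fun _ => Iff.rfl))
  constructor
  · obtain ⟨h7, h9⟩ := P_of_eight h8 (M := M.comap e.toMonoidHom) (by rw [hcard]; exact hc)
    exact Two.congr e (two_of_P (by decide) (by decide) (by norm_num) h7 h9)
  · intro R hRM hno
    obtain ⟨h7, h9⟩ := P_of_eight h8 (M := R.comap e.toMonoidHom)
      (by rw [hcard]; exact (Subgroup.card_dvd_of_le hRM).trans hc)
    obtain ⟨x, hx, hx'⟩ := h7
    obtain ⟨y, hy, hy'⟩ := h9
    have key : ∀ n : ℕ, (n = 63 ∨ n = 65 ∨ n = 4) → (∀ m ∈ R, orderOf m ≠ n) → Three (PSp 2 F) R := by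
      intro n hn hm
      obtain ⟨z, hz⟩ := (hspec n).2 (by
        rcases hn with rfl | rfl | rfl
        · right; right; left; norm_num
        · right; right; right; left; norm_num
        · right; right; right; right; right; exact ⟨rfl, dvd_rfl⟩)
      refine Three.congr e ⟨x, y, e.symm z, hx', hy', fun φ hφ => ?_, ne_of_odd (by decide) (by decide) (by norm_num) hx hy,
        fun φ hφ => ?_, fun φ hφ => ?_⟩
      · refine hm _ hφ ?_
        have : orderOf (e.toMonoidHom (φ (e.symm z))) = orderOf (e (φ (e.symm z))) := rfl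
        rw [this, MulEquiv.orderOf_eq, MulEquiv.orderOf_eq, MulEquiv.orderOf_eq, hz]
      · have h1 : orderOf (φ x) = n := by rw [hφ, MulEquiv.orderOf_eq, hz]
        rw [MulEquiv.orderOf_eq] at h1
        omega
      · have h1 : orderOf (φ y) = n := by rw [hφ, MulEquiv.orderOf_eq, hz]
        rw [MulEquiv.orderOf_eq] at h1
        omega
    by_cases h1 : ∃ x ∈ R, orderOf x = 63
    · by_cases h2 : ∃ x ∈ R, orderOf x = 65
      · by_cases h3 : ∃ x ∈ R, orderOf x = 4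
        · exact absurd ⟨h1, h2, h3⟩ hno
        · push Not at h3
          exact key 4 (by norm_num) h3
      · push Not at h2
        exact key 65 (by norm_num) h2
    · push Not at h1
      exact key 63 (by norm_num) h1

end Cfsg.Agent.H580.Der.EvenM
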