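import Cfsg.Agent.H813.SaxSp
import Cfsg.Agent.H580.Der.Ntc

/-!
# `Sp_4(q)`, `q` even: missing classes of a subgroup whose order divides `2 q² (q⁴ - 1)` (helper580, for S3502)
-/

set_option autoImplicit false

namespace Cfsg.Agent.H580.Der.EvenQ

open Matrix Subgroup Cfsg Cfsg.Agent.H931.PspDuo Cfsg.Agent.H262.El Cfsg.Agent.H876 Cfsg.Agent.H813.SaxSp Cfsg.Agent.H439.Der
open scoped MatrixGroups

section SL

variable {F : Type} [Field F] [Fintype F] [CharP F 2]

/-- elements of order `n` of `SL_2(q)` for `n ∣ q ± 1`, `q` even. -/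
theorem exists_sl {n : ℕ} (hn : Odd n) (hn3 : 3 ≤ n) (hd : n ∣ Fintype.card F - 1 ∨ n ∣ Fintype.card F + 1) :
    ∃ b : Matrix.SpecialLinearGroup (Fin 2) F, orderOf b = n := by
  let K := AlgebraicClosure F
  let i : F →+* K := algebraMap F K
  have hK : CharP K 2 := charP_of_injective_ringHom i.injective 2
  have h2 : (2 : K) = 0 := CharTwo.two_eq_zero
  have hnK : (n : K) ≠ 0 := by
    intro h
    rw [CharP.cast_eq_zero_iff K 2 n] at h
    exact (Nat.not_even_iff_odd.2 hn) (even_iff_two_dvd.2 h)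
  have : NeZero (n : K) := ⟨hnK⟩
  obtain ⟨β, hβ⟩ := HasEnoughRootsOfUnity.exists_primitiveRoot K n
  have hβ0 : β ≠ 0 := hβ.ne_zero (by omega)
  obtain ⟨f, -, hf⟩ := FiniteField.card F 2
  have hqq : β ^ Fintype.card F = β ∨ β ^ Fintype.card F = β⁻¹ := by
    have h1 : 1 ≤ Fintype.card F := Fintype.card_pos
    rcases hd with ⟨c, hc⟩ | ⟨c, hc⟩
    · left
      calc β ^ Fintype.card F = β ^ (Fintype.card F - 1) * β := by rw [← pow_succ, Nat.sub_add_cancel h1]
        _ = β := by rw [hc, pow_mul, hβ.pow_eq_one, one_pow, one_mul]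
    · right
      have h5 : β ^ (Fintype.card F + 1) = 1 := by rw [hc, pow_mul, hβ.pow_eq_one, one_pow]
      rw [pow_succ] at h5
      exact eq_inv_of_mul_eq_one_left h5
  have hsq : (β + β⁻¹) ^ Fintype.card F = β + β⁻¹ := by
    rw [hf, add_pow_char_pow, inv_pow, ← hf]
    rcases hqq with h | h
    · rw [h]
    · rw [h, inv_inv, add_comm]
  obtain ⟨t, ht⟩ := Cfsg.Agent.H374.SpLow.mem_range_of_pow i hsq
  obtain ⟨B, hB⟩ : ∃ B : Matrix (Fin 2) (Fin 2) F, B = !![0, 1; 1, t] := ⟨_, rfl⟩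
  have hdet : B.det = 1 := by
    rw [hB, det_fin_two_of]
    have : (-1 : F) = 1 := by
      have h2' : (2 : F) = 0 := CharTwo.two_eq_zero
      linear_combination -h2'
    simp [this]
  have hne : β ≠ β⁻¹ := by
    intro h
    have h1 : β ^ 2 = 1 := by
      rw [sq]
      nth_rewrite 2 [h]
      exact mul_inv_cancel₀ hβ0
    have := Nat.le_of_dvd (by norm_num) (hβ.dvd_of_pow_eq_one _ h1)
    omega
  -- eigenvectors
  have hev : ∀ γ : K, γ ≠ 0 → γ + γ⁻¹ = β + β⁻¹ → ∀ k : ℕ, (B.map i) ^ k *ᵥ ![1, γ] = γ ^ k • ![1, γ] := by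
    intro γ hγ hγs k
    have h1 : (B.map i) *ᵥ ![1, γ] = γ • ![1, γ] := by
      have h3 : (1 : K) + (i t) * γ = γ * γ := by
        rw [ht, ← hγs, add_mul, inv_mul_cancel₀ hγ]
        linear_combination h2
      rw [hB]
      ext j
      fin_cases j
      · simp [Matrix.mulVec, dotProduct, Fin.sum_univ_two]
      · simp [Matrix.mulVec, dotProduct, Fin.sum_univ_two, h3]
    induction k with
    | zero => simp
    | succ k ih => rw [pow_succ, ← mulVec_mulVec, h1, mulVec_smul, ih, smul_smul, pow_succ, mul_comm]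
  have hBn : B ^ n = 1 := by
    have h1 : (B.map i) ^ n = 1 := by
      have e1 := hev β hβ0 rfl n
      have e2 := hev β⁻¹ (inv_ne_zero hβ0) (by rw [inv_inv, add_comm]) n
      rw [hβ.pow_eq_one, one_smul] at e1
      rw [inv_pow, hβ.pow_eq_one, inv_one, one_smul] at e2
      set C := (B.map i) ^ n with hC
      have a0 := congrFun e1 0
      have a1 := congrFun e1 1
      have b0 := congrFun e2 0
      have b1 := congrFun e2 1
      simp [Matrix.mulVec, dotProduct, Fin.sum_univ_two] at a0 a1 b0 b1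
      have hd' : β - β⁻¹ ≠ 0 := sub_ne_zero.2 hne
      have c01 : C 0 1 = 0 := by
        have : C 0 1 * (β - β⁻¹) = 0 := by linear_combination a0 - b0
        exact (mul_eq_zero.1 this).resolve_right hd'
      have c11 : C 1 1 = 1 := by
        have : (C 1 1 - 1) * (β - β⁻¹) = 0 := by linear_combination a1 - b1
        exact sub_eq_zero.1 ((mul_eq_zero.1 this).resolve_right hd')
      have c00 : C 0 0 = 1 := by rw [c01] at a0; linear_combination a0
      have c10 : C 1 0 = 0 := by rw [c11] at a1; linear_combination a1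
      ext j k
      fin_cases j <;> fin_cases k <;> simp [c00, c01, c10, c11]
    have h3 : (B ^ n).map i = (1 : Matrix (Fin 2) (Fin 2) F).map i := by
      rw [← RingHom.mapMatrix_apply, map_pow, RingHom.mapMatrix_apply, h1, Matrix.map_one _ (map_zero _) (map_one _)]
    exact Matrix.map_injective i.injective h3
  obtain ⟨b, hb⟩ : ∃ b : Matrix.SpecialLinearGroup (Fin 2) F, (b : Matrix (Fin 2) (Fin 2) F) = B := ⟨⟨B, hdet⟩, rfl⟩
  refine ⟨b, ?_⟩
  have hp : ∀ k : ℕ, ((b ^ k : Matrix.SpecialLinearGroup (Fin 2) F) : Matrix (Fin 2) (Fin 2) F) = B ^ k := fun k => by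
    rw [← hb]
    exact Matrix.SpecialLinearGroup.coe_pow _ k
  apply Nat.dvd_antisymm
  · apply orderOf_dvd_of_pow_eq_one
    apply Subtype.ext
    rw [hp, hBn]
    rfl
  · apply hβ.dvd_of_pow_eq_one
    set k := orderOf b with hk
    have h1 : B ^ k = 1 := by
      rw [← hp, hk, pow_orderOf_eq_one]
      rfl
    have h3 := hev β hβ0 rfl k
    rw [← RingHom.mapMatrix_apply, ← map_pow, h1, map_one, one_mulVec] at h3
    have h4 := congrFun h3 0
    simpa using h4.symm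

end SL

/-- **Regular elements.** `w ∈ M` has order `2 r ^ a`, `g` has order `r ^ a` and commutes with no involution, `r ^ (a + 1)`
does not divide the order of `M`. -/
theorem not_mem_of' {T : Type*} [Group T] [Finite T] {M : Subgroup T} {r a : ℕ} (hr : r.Prime)
    (hr2 : r ≠ 2) {g w : T} (hg : orderOf g = r ^ a) (hgc : ∀ y : T, y ^ 2 = 1 → y * g = g * y → y = 1)
    (hwM : w ∈ M) (hw : orderOf w = 2 * r ^ a) (hM : ¬ r ^ (a + 1) ∣ Nat.card M) : g ∉ M := by
  intro hgM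
  have hrf : Fact r.Prime := ⟨hr⟩
  have hra : 0 < r ^ a := Nat.pow_pos hr.pos
  -- `w ^ 2` has order `r ^ a`
  have hy : orderOf (w ^ 2) = r ^ a := by
    rw [orderOf_pow_of_dvd two_ne_zero ⟨_, hw⟩, hw, Nat.mul_div_cancel_left _ two_pos]
  have hi : orderOf (w ^ (r ^ a)) = 2 := by
    rw [orderOf_pow_of_dvd hra.ne' ⟨2, by rw [hw, mul_comm]⟩, hw, Nat.mul_div_cancel _ hra]
  -- two Sylow `r`-subgroups
  have hcard : ∀ x : M, orderOf x = r ^ a → ∃ P : Sylow r M, (P : Subgroup M) = zpowers x := by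
    intro x hx
    have hpg : IsPGroup r (zpowers x) := IsPGroup.of_card (n := a) (by rw [Nat.card_zpowers, hx])
    obtain ⟨P, hP⟩ := hpg.exists_le_sylow
    obtain ⟨k, hk⟩ := (P.2).exists_card_eq
    refine ⟨P, ?_⟩
    symm
    apply Subgroup.eq_of_le_of_card_ge hP
    rw [Nat.card_zpowers, hx]
    have hk' : Nat.card (P : Subgroup M) = r ^ k := hk
    rw [hk']
    apply Nat.pow_le_pow_right hr.pos
    by_contra hc
    push Not at hc
    apply hM
    have h1 : r ^ k ∣ Nat.card M := hk' ▸ Subgroup.card_subgroup_dvd_card (P : Subgroup M)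
    exact (pow_dvd_pow r hc).trans h1
  obtain ⟨P, hP⟩ := hcard ⟨g, hgM⟩ (by rw [Subgroup.orderOf_mk, hg])
  obtain ⟨Q, hQ⟩ := hcard (⟨w, hwM⟩ ^ 2) (by
    rw [← hy, ← Subgroup.orderOf_coe]
    rfl)
  obtain ⟨m, hm⟩ := MulAction.exists_smul_eq M Q P
  -- the conjugate involution commutes with `g`
  have h1 : (⟨g, hgM⟩ : M) ∈ (m • Q : Sylow r M) := by
    rw [hm]
    show (⟨g, hgM⟩ : M) ∈ (P : Subgroup M)
    rw [hP]
    exact mem_zpowers _
  have h2 : m⁻¹ * (⟨g, hgM⟩ : M) * m ∈ (Q : Subgroup M) := by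
    have h3 : (⟨g, hgM⟩ : M) ∈ (Q : Subgroup M).map (MulAut.conj m).toMonoidHom := h1
    obtain ⟨u, hu, hug⟩ := h3
    have h4 : m * u * m⁻¹ = ⟨g, hgM⟩ := hug
    rw [← h4]
    have : m⁻¹ * (m * u * m⁻¹) * m = u := by group
    rw [this]
    exact hu
  rw [hQ] at h2
  obtain ⟨k, hk⟩ := h2
  have hk' : ((w ^ 2) ^ k : T) = (m : T)⁻¹ * g * m := congrArg Subtype.val hk
  have hcomm : Commute (w ^ (r ^ a)) ((m : T)⁻¹ * g * m) := by
    rw [← hk']
    exact ((Commute.refl w).pow_pow _ _).zpow_right k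
  have h5 := hgc ((m : T) * w ^ (r ^ a) * (m : T)⁻¹) (by
    rw [conj_pow, ← hi, pow_orderOf_eq_one, mul_one, mul_inv_cancel]) (by
    have h6 : g = (m : T) * ((m : T)⁻¹ * g * m) * (m : T)⁻¹ := by group
    calc (m : T) * w ^ (r ^ a) * (m : T)⁻¹ * g = (m : T) * (w ^ (r ^ a) * ((m : T)⁻¹ * g * m)) * (m : T)⁻¹ := by group
      _ = (m : T) * (((m : T)⁻¹ * g * m) * w ^ (r ^ a)) * (m : T)⁻¹ := by rw [hcomm.eq]
      _ = g * ((m : T) * w ^ (r ^ a) * (m : T)⁻¹) := by group)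
  have h7 : w ^ (r ^ a) = 1 := by
    have h8 : (m : T) * w ^ (r ^ a) = m := by rwa [mul_inv_eq_one] at h5
    exact mul_eq_left.1 h8
  rw [h7, orderOf_one] at hi
  omega

section Sp

variable {F : Type} [Field F] [Fintype F] [CharP F 2]

/-- a missing element of order `n` or `2 n`. -/
def P (M : Subgroup (Matrix.symplecticGroup (Fin 2) F)) (n : ℕ) : Prop :=
  ∃ z : Matrix.symplecticGroup (Fin 2) F, (orderOf z = n ∨ orderOf z = 2 * n) ∧
    ∀ φ : Matrix.symplecticGroup (Fin 2) F ≃* Matrix.symplecticGroup (Fin 2) F, φ z ∉ M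

theorem order_mk {b : Matrix.SpecialLinearGroup (Fin 2) F} : orderOf (mk b (b ^ 2)) = orderOf b := by
  have h1 : orderOf (mkHom F (b, b ^ 2)) = orderOf b := by
    rw [orderOf_injective _ mkHom_injective, Prod.orderOf_mk]
    exact Nat.lcm_eq_left (orderOf_pow_dvd 2)
  exact h1

theorem mk_pow (a b : Matrix.SpecialLinearGroup (Fin 2) F) (k : ℕ) : (mk a b) ^ k = mk (a ^ k) (b ^ k) := by
  have h1 : (mkHom F (a, b)) ^ k = mkHom F (a ^ k, b ^ k) := by rw [← map_pow]; rfl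
  exact h1

/-- **a missing class.** -/
theorem P_of {M : Subgroup (Matrix.symplecticGroup (Fin 2) F)} {r a c : ℕ} (hr : r.Prime) (hr2 : r ≠ 2)
    (h5 : 5 ≤ r ^ a) (hM : ¬ r ^ (a + 1) ∣ Nat.card M) (hc : Odd c)
    (hd : c * r ^ a ∣ Fintype.card F - 1 ∨ c * r ^ a ∣ Fintype.card F + 1) : P M (c * r ^ a) := by
  have hc0 : c ≠ 0 := by rintro rfl; exact absurd hc (by decide)
  have hodd : Odd (r ^ a) := (hr.odd_of_ne_two hr2).pow
  have h3 : 3 ≤ c * r ^ a := by
    have : 1 * r ^ a ≤ c * r ^ a := Nat.mul_le_mul_right _ (Nat.one_le_iff_ne_zero.2 hc0)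
    omega
  obtain ⟨b, hb⟩ := exists_sl (F := F) (hc.mul hodd) h3 hd
  have hbc : orderOf (b ^ c) = r ^ a := by
    rw [orderOf_pow_of_dvd hc0 ⟨r ^ a, hb⟩, hb, Nat.mul_div_cancel_left _ (Nat.pos_of_ne_zero hc0)]
  by_cases hw : ∃ w ∈ M, orderOf w = 2 * r ^ a
  · obtain ⟨w, hwM, hw⟩ := hw
    refine ⟨mk b (b ^ 2), Or.inl (by rw [order_mk, hb]), fun φ hφ => ?_⟩
    have h6 : φ (mk (b ^ c) ((b ^ c) ^ 2)) ∈ M := by
      have h7 : mk (b ^ c) ((b ^ c) ^ 2) = (mk b (b ^ 2)) ^ c := by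
        rw [mk_pow, ← pow_mul, ← pow_mul, mul_comm c 2]
      rw [h7, map_pow]
      exact M.pow_mem hφ c
    refine not_mem_of' hr hr2 (g := φ (mk (b ^ c) ((b ^ c) ^ 2))) (w := w) ?_ (fun y hy hyg => ?_) hwM hw hM h6
    · rw [MulEquiv.orderOf_eq, order_mk, hbc]
    · apply φ.symm.injective
      rw [map_one]
      refine cent_mk hbc h5 (y := φ.symm y) ?_ ?_
      · rw [← map_pow, hy, map_one]
      · apply φ.injective
        rw [map_mul, map_mul, φ.apply_symm_apply, hyg]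
  · have hev : 2 ∣ Nat.card (Matrix.SpecialLinearGroup (Fin 2) F) := by
      rw [Cfsg.Agent.ClassicalGeometry.PSL2Basic.card_SL2]
      obtain ⟨f, -, hf⟩ := FiniteField.card F 2
      exact Dvd.dvd.mul_right (by rw [hf]; exact dvd_pow_self 2 f.2.ne') _
    have : Fact (Nat.Prime 2) := ⟨Nat.prime_two⟩
    obtain ⟨t, ht⟩ := exists_prime_orderOf_dvd_card' (G := Matrix.SpecialLinearGroup (Fin 2) F) 2 hev
    have hord : orderOf (mk b t) = 2 * (c * r ^ a) := by
      have h1 : orderOf (mkHom F (b, t)) = 2 * (c * r ^ a) := by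
        rw [orderOf_injective _ mkHom_injective, Prod.orderOf_mk, hb, ht, mul_comm 2]
        exact Nat.Coprime.lcm_eq_mul (hc.mul hodd).coprime_two_right
      exact h1
    refine ⟨mk b t, Or.inr hord, fun φ hφ => hw ⟨φ (mk b t) ^ c, M.pow_mem hφ c, ?_⟩⟩
    rw [orderOf_pow_of_dvd hc0 ⟨2 * r ^ a, by rw [MulEquiv.orderOf_eq, hord]; ring⟩, MulEquiv.orderOf_eq, hord,
      show 2 * (c * r ^ a) = c * (2 * r ^ a) by ring, Nat.mul_div_cancel_left _ (Nat.pos_of_ne_zero hc0)]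

theorem ne_of_odd {G : Type*} [Group G] {x y : G} {a b : ℕ} (ha : Odd a) (hb : Odd b) (hab : a ≠ b)
    (hx : orderOf x = a ∨ orderOf x = 2 * a) (hy : orderOf y = b ∨ orderOf y = 2 * b) (φ : G ≃* G) : φ x ≠ y := by
  rintro rfl
  rw [MulEquiv.orderOf_eq] at hy
  obtain ⟨i, hi⟩ := ha
  obtain ⟨j, hj⟩ := hb
  rcases hx with h1 | h1 <;> rcases hy with h2 | h2 <;> omega

theorem three_of_P {M : Subgroup (Matrix.symplecticGroup (Fin 2) F)} {a b c : ℕ} (ha : Odd a) (hb : Odd b) (hc : Odd c)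
    (hab : a ≠ b) (hac : a ≠ c) (hbc : b ≠ c) (h1 : P M a) (h2 : P M b) (h3 : P M c) :
    Three (Matrix.symplecticGroup (Fin 2) F) M := by
  obtain ⟨x, hx, hx'⟩ := h1
  obtain ⟨y, hy, hy'⟩ := h2
  obtain ⟨z, hz, hz'⟩ := h3
  exact ⟨x, y, z, hx', hy', hz', ne_of_odd ha hb hab hx hy, ne_of_odd ha hc hac hx hz, ne_of_odd hb hc hbc hy hz⟩

theorem two_of_P {M : Subgroup (Matrix.symplecticGroup (Fin 2) F)} {a b : ℕ} (ha : Odd a) (hb : Odd b)
    (hab : a ≠ b) (h1 : P M a) (h2 : P M b) : Two (Matrix.symplecticGroup (Fin 2) F) M := by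
  obtain ⟨x, hx, hx'⟩ := h1
  obtain ⟨y, hy, hy'⟩ := h2
  exact ⟨x, y, hx', hy', ne_of_odd ha hb hab hx hy⟩

end Sp

end Cfsg.Agent.H580.Der.EvenQ
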