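import Mathlib

/-!
# Powers of `p` modulo `q² + 1` (helper580, for S3502, S3500)
-/

set_option autoImplicit false

namespace Cfsg.Agent.H580.Der.Num

/-- powers modulo `b ^ e + 1`. -/
theorem reduce {b e N : ℕ} (he : 1 ≤ e) (hN : N ∣ b ^ e + 1) (k : ℕ) :
    ∃ k' < e, (N : ℤ) ∣ (b : ℤ) ^ k - (b : ℤ) ^ k' ∨ (N : ℤ) ∣ (b : ℤ) ^ k + (b : ℤ) ^ k' := by
  refine ⟨k % e, Nat.mod_lt _ (by omega), ?_⟩
  have h1 : (N : ℤ) ∣ (b : ℤ) ^ e - (-1) := by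
    have := Int.natCast_dvd_natCast.2 hN
    push_cast at this
    rwa [sub_neg_eq_add]
  have h2 : (N : ℤ) ∣ ((b : ℤ) ^ e) ^ (k / e) - (-1) ^ (k / e) := h1.trans (sub_dvd_pow_sub_pow _ _ _)
  have h3 : (b : ℤ) ^ k = ((b : ℤ) ^ e) ^ (k / e) * (b : ℤ) ^ (k % e) := by
    rw [← pow_mul, ← pow_add, Nat.div_add_mod]
  rcases neg_one_pow_eq_or ℤ (k / e) with h4 | h4
  · left
    rw [h4] at h2
    have : (b : ℤ) ^ k - (b : ℤ) ^ (k % e) = (((b : ℤ) ^ e) ^ (k / e) - 1) * (b : ℤ) ^ (k % e) := by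
      rw [h3]; ring
    rw [this]
    exact h2.mul_right _
  · right
    rw [h4] at h2
    have : (b : ℤ) ^ k + (b : ℤ) ^ (k % e) = (((b : ℤ) ^ e) ^ (k / e) - (-1)) * (b : ℤ) ^ (k % e) := by
      rw [h3]; ring
    rw [this]
    exact h2.mul_right _

/-- from a congruence `i b ^ k ≡ j`. -/
theorem of_modEq {b e N i j k : ℕ} (he : 1 ≤ e) (hN : N ∣ b ^ e + 1) (h : i * b ^ k ≡ j [MOD N]) :
    ∃ k' < e, (N : ℤ) ∣ (i : ℤ) * (b : ℤ) ^ k' - j ∨ (N : ℤ) ∣ (i : ℤ) * (b : ℤ) ^ k' + j := by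
  obtain ⟨k', hk', h1⟩ := reduce he hN k
  refine ⟨k', hk', ?_⟩
  have h2 : (N : ℤ) ∣ (i : ℤ) * (b : ℤ) ^ k - j := by
    have := (Int.natCast_modEq_iff.2 h).symm.dvd
    push_cast at this
    exact this
  rcases h1 with h1 | h1
  · left
    have : (i : ℤ) * (b : ℤ) ^ k' - j = ((i : ℤ) * (b : ℤ) ^ k - j) - (i : ℤ) * ((b : ℤ) ^ k - (b : ℤ) ^ k') := by ring
    rw [this]
    exact dvd_sub h2 (h1.mul_left _)
  · right
    have : (i : ℤ) * (b : ℤ) ^ k' + j = (i : ℤ) * ((b : ℤ) ^ k + (b : ℤ) ^ k') - ((i : ℤ) * (b : ℤ) ^ k - j) := by ring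
    rw [this]
    exact dvd_sub (h1.mul_left _) h2

/-- **odd `q`**: `p ^ k ≢ 2, 4` modulo `(q² + 1) / 2`. -/
theorem odd_case {p f N : ℕ} (hp : 3 ≤ p) (hpo : Odd p) (hf : 1 ≤ f) (hN : 2 * N = p ^ (2 * f) + 1) (hN13 : 13 ≤ N) {c k : ℕ}
    (hc : c = 2 ∨ c = 4) : ¬ p ^ k ≡ c [MOD N] := by
  intro h
  obtain ⟨k', hk', h1⟩ := of_modEq (b := p) (e := 2 * f) (N := N) (i := 1) (j := c) (k := k) (by omega) ⟨2, by omega⟩ (by rwa [one_mul])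
  have h2 : p ^ k' * 3 ≤ p ^ (2 * f) := by
    calc p ^ k' * 3 ≤ p ^ k' * p := Nat.mul_le_mul_left _ hp
      _ = p ^ (k' + 1) := (pow_succ _ _).symm
      _ ≤ p ^ (2 * f) := Nat.pow_le_pow_right (by omega) (by omega)
  have h3 : Odd (p ^ k') := hpo.pow
  obtain ⟨x, hx⟩ : ∃ x, x = p ^ k' := ⟨_, rfl⟩
  have hx' : (x : ℤ) = (p : ℤ) ^ k' := by rw [hx]; push_cast; ring
  rw [← hx] at h2 h3
  rw [← hx'] at h1
  obtain ⟨y, hy⟩ := h3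
  have h4 : 1 ≤ x := by omega
  push_cast [one_mul] at h1
  rcases h1 with ⟨t, ht⟩ | ⟨t, ht⟩
  · have h5 : (x : ℤ) - c ≠ 0 := by rcases hc with rfl | rfl <;> push_cast <;> omega
    have h6 : t ≠ 0 := by rintro rfl; rw [mul_zero] at ht; exact h5 (by simpa using ht)
    have h7 : (N : ℤ) ≤ |(x : ℤ) - c| := by
      have := Int.le_of_dvd (abs_pos.2 h5) ((dvd_abs _ _).2 ⟨t, by simpa using ht⟩)
      exact this
    rw [le_abs] at h7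
    rcases hc with rfl | rfl <;> push_cast at h7 <;> omega
  · have h7 : (N : ℤ) ≤ (x : ℤ) + c := Int.le_of_dvd (by positivity) ⟨t, by simpa using ht⟩
    rcases hc with rfl | rfl <;> push_cast at h7 <;> omega

/-- **even `q ≥ 8`**: `2 ^ k ≢ 9, 25` and `9 2 ^ k ≢ 25` modulo `q² + 1`. -/
theorem even_case {f N : ℕ} (hf : 3 ≤ f) (hN : N = 2 ^ (2 * f) + 1) {c d k : ℕ}
    (hc : (c = 1 ∧ d = 9) ∨ (c = 1 ∧ d = 25) ∨ (c = 9 ∧ d = 25)) : ¬ c * 2 ^ k ≡ d [MOD N] := by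
  intro h
  obtain ⟨k', hk', h1⟩ := of_modEq (b := 2) (e := 2 * f) (N := N) (by omega) (by rw [hN]) h
  obtain ⟨Q, hQ⟩ : ∃ Q, 2 ^ (2 * f) = 64 * Q := ⟨2 ^ (2 * f - 6), by
    rw [show (64 : ℕ) = 2 ^ 6 by norm_num, ← pow_add]
    congr 1
    omega⟩
  have h2 : 2 ^ k' * 2 ≤ 64 * Q := by
    rw [← hQ, ← pow_succ]
    exact Nat.pow_le_pow_right (by norm_num) (by omega)
  have hQ1 : 1 ≤ Q := by
    rcases Nat.eq_zero_or_pos Q with h0 | h0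
    · rw [h0] at hQ
      simp at hQ
    · exact h0
  rw [hQ] at hN
  obtain ⟨x, hx⟩ : ∃ x, x = 2 ^ k' := ⟨_, rfl⟩
  have hx' : (x : ℤ) = (2 : ℤ) ^ k' := by rw [hx]; push_cast; ring
  have hxc : x = 1 ∨ x = 2 ∨ x = 4 ∨ x = 8 ∨ ∃ w, x = 16 * w := by
    rcases Nat.lt_or_ge k' 4 with h4 | h4
    · interval_cases k' <;> simp [hx]
    · right; right; right; right
      refine ⟨2 ^ (k' - 4), ?_⟩
      rw [hx, show (16 : ℕ) = 2 ^ 4 by norm_num, ← pow_add]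
      congr 1
      omega
  rw [← hx] at h2
  push_cast at h1
  rw [← hx'] at h1
  rcases h1 with ⟨t, ht⟩ | ⟨t, ht⟩
  all_goals
    have ht5 : t < 5 := by
      by_contra hcon
      push Not at hcon
      have h5 : (N : ℤ) * 5 ≤ (N : ℤ) * t := Int.mul_le_mul_of_nonneg_left hcon (by positivity)
      rcases hc with ⟨rfl, rfl⟩ | ⟨rfl, rfl⟩ | ⟨rfl, rfl⟩ <;> push_cast at ht <;> omega
    have ht0 : -1 < t := by
      by_contra hcon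
      push Not at hcon
      have h5 : (N : ℤ) * t ≤ (N : ℤ) * (-1) := Int.mul_le_mul_of_nonneg_left hcon (by positivity)
      rcases hc with ⟨rfl, rfl⟩ | ⟨rfl, rfl⟩ | ⟨rfl, rfl⟩ <;> push_cast at ht <;> omega
    interval_cases t <;> rcases hc with ⟨rfl, rfl⟩ | ⟨rfl, rfl⟩ | ⟨rfl, rfl⟩ <;> push_cast at ht <;>
      rcases hxc with h4 | h4 | h4 | h4 | ⟨w, h4⟩ <;> omega

end Cfsg.Agent.H580.Der.Num
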