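import Cfsg.Agent.H580.Der.PspPow
import Cfsg.Agent.H580.Der.Num
import Cfsg.Agent.H439.Der.Three
import Cfsg.Agent.H458.SpAut
import Cfsg.Agent.H374.SpFour
import Cfsg.Agent.H884.ElRows

/-!
# Three classes of elements of order divisible by a prime divisor of `q² + 1` in `PSp_4(q)` (helper580)

`not_SCC_big` : `¬ SCC (PSp 2 F) v` for `q ≥ 5` and every odd prime divisor `v` of `q² + 1`.
-/

set_option autoImplicit false

namespace Cfsg.Agent.H580.Der.PspCls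

open Cfsg Cfsg.Geo
open Cfsg.Agent.H580.Der.PspPow Cfsg.Agent.H439.Der Cfsg.Agent.H884.El
open Cfsg.Agent.ClassicalGeometry.SympBasic Cfsg.Agent.ClassicalGeometry.SympAutSemi

variable {F : Type} [Field F] [Fintype F]

/-- all automorphisms are semilinear. -/
theorem range_top {m : ℕ} (hm : 2 ≤ m) (h : 3 ≤ m ∨ (2 : F) ≠ 0) : (Psi m F).range = ⊤ := by
  rw [eq_top_iff]
  intro α _
  obtain ⟨g, hg⟩ := Cfsg.Agent.ClassicalGeometry.SympAutExists.exists_semi hm α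
    (Cfsg.Agent.ClassicalGeometry.SympAutOddA.recog hm h α)
  exact ⟨g, hg⟩

/-- squares of automorphisms are semilinear. -/
theorem sq_mem {m : ℕ} (hm : 2 ≤ m) (h22 : m = 2 → 3 ≤ Fintype.card F) (ψ : MulAut (PSp m F)) :
    ψ * ψ ∈ (Psi m F).range := by
  rcases Cfsg.Agent.H458.SpAut.index_le (F := F) hm h22 with h | h
  · rw [Subgroup.index_eq_one.1 h]
    trivial
  · rw [← sq]
    exact Subgroup.sq_mem_of_index_two h ψ

/-- powers of an irreducible element conjugate under semilinear automorphisms. -/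
theorem modEq_of_psi {m : ℕ} (hm : 1 ≤ m) {p : ℕ} [Fact p.Prime] [CharP F p] {r : ℕ}
    (hr : Cfsg.Agent.H262.El.Od (Fintype.card F) (2 * m) r) (hr2 : r ≠ 2) {x : PSp m F} (hrx : r ∣ orderOf x)
    {ψ : MulAut (PSp m F)} (hψ : ψ ∈ (Psi m F).range) {i j : ℕ} (h : ψ (x ^ i) = x ^ j) :
    ∃ k : ℕ, i * p ^ k ≡ j [MOD orderOf x] := by
  obtain ⟨A, rfl⟩ := QuotientGroup.mk_surjective x
  have hirr := irr_of_dvd hm hr hr2 (A := A) hrx (orderOf_pos _).ne'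
  obtain ⟨k, hk⟩ := pow_of_psi hm (p := p) hirr hψ h
  exact ⟨k, (pow_eq_pow_iff_modEq.1 hk).symm⟩

/-- the exponent `N = (q² + 1) / (2, q - 1)` -/
theorem exists_big (h5 : 5 ≤ Fintype.card F) : ∃ (r : ℕ) (x : PSp 2 F),
    orderOf x = (Fintype.card F ^ 2 + 1) / Nat.gcd 2 (Fintype.card F - 1) ∧
      Cfsg.Agent.H262.El.Od (Fintype.card F) (2 * 2) r ∧ r ≠ 2 ∧ r ∣ orderOf x := by
  obtain ⟨p, hpc⟩ := CharP.exists F
  obtain ⟨n, hp, hn⟩ := FiniteField.card F p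
  have hpf := Fact.mk hp
  have h3 : 3 ≤ p ^ (n : ℕ) := by
    rw [← hn]
    omega
  obtain ⟨x, hx⟩ := (Cfsg.Agent.H374.SpFour.exists_iff (F := F) (p := p) n.2.ne' hn h3
    (((p ^ (n : ℕ)) ^ 2 + 1) / Nat.gcd 2 (p ^ (n : ℕ) - 1))).2 (Or.inr (Or.inr (Or.inr (Or.inl dvd_rfl))))
  obtain ⟨r, hr⟩ := exists_pp (q := Fintype.card F) (e := 4) (by omega) (by norm_num) (fun h => by omega)
  have hr2 : r ≠ 2 := by have := hr.lt (by norm_num); omega
  refine ⟨r, x, by rw [hx, hn], ⟨hr.prime, hr.ord, hr.not_dvd (by norm_num)⟩, hr2, ?_⟩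
  rw [hx, ← hn]
  have h1 : r ∣ Fintype.card F ^ 2 + 1 := by
    have h2 : r ∣ (Fintype.card F ^ 2 - 1) * (Fintype.card F ^ 2 + 1) := by
      have h3 : (Fintype.card F ^ 2 - 1) * (Fintype.card F ^ 2 + 1) = Fintype.card F ^ 4 - 1 := by
        obtain ⟨c, hc⟩ : ∃ c, Fintype.card F ^ 2 = c + 1 := ⟨Fintype.card F ^ 2 - 1, by
          have : 1 ≤ Fintype.card F ^ 2 := Nat.one_le_pow _ _ (by omega)
          omega⟩
        rw [show Fintype.card F ^ 4 = (Fintype.card F ^ 2) ^ 2 by ring, hc]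
        have : (c + 1) ^ 2 = c * (c + 1 + 1) + 1 := by ring
        rw [this]
        simp
      rw [h3, hr.dvd_iff (by omega)]
    rcases hr.prime.dvd_mul.1 h2 with h | h
    · rw [hr.dvd_iff (by omega)] at h
      exact absurd (Nat.le_of_dvd (by norm_num) h) (by norm_num)
    · exact h
  have hg : Nat.gcd 2 (Fintype.card F - 1) ∣ Fintype.card F ^ 2 + 1 := by
    rcases Nat.even_or_odd (Fintype.card F) with he | ho
    · rw [Cfsg.Agent.H374.Quad.gcd_of_even he (by omega)]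
      exact one_dvd _
    · rw [Cfsg.Agent.H374.Quad.gcd_of_odd ho]
      exact (ho.pow.add_one : Even (Fintype.card F ^ 2 + 1)).two_dvd
  obtain ⟨c, hc⟩ := hg
  have hg0 : 0 < Nat.gcd 2 (Fintype.card F - 1) := Nat.gcd_pos_of_pos_left _ (by norm_num)
  rw [hc, Nat.mul_div_cancel_left _ hg0]
  rw [hc] at h1
  refine (Nat.Coprime.dvd_of_dvd_mul_left ?_ h1)
  refine Nat.Coprime.coprime_dvd_right (Nat.gcd_dvd_left _ _) ?_
  exact (Nat.coprime_primes hr.prime Nat.prime_two).2 hr2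

theorem two_ne_zero_of_odd (hodd : Odd (Fintype.card F)) : (2 : F) ≠ 0 := by
  obtain ⟨p, hpc⟩ := CharP.exists F
  obtain ⟨n, hp, hn⟩ := FiniteField.card F p
  intro h
  have h1 : p ∣ 2 := (CharP.cast_eq_zero_iff F p 2).1 (by exact_mod_cast h)
  have h2 : p = 2 := (Nat.prime_dvd_prime_iff_eq hp Nat.prime_two).1 h1
  rw [hn, h2] at hodd
  exact (Nat.not_even_iff_odd.2 hodd) (Even.pow_of_ne_zero even_two n.2.ne')

/-- **`q` odd**: three classes of elements of order `(q² + 1) / 2`. -/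
theorem three_odd (h5 : 5 ≤ Fintype.card F) (hodd : Odd (Fintype.card F)) : ∃ x y z : PSp 2 F,
    orderOf x = (Fintype.card F ^ 2 + 1) / 2 ∧ orderOf y = (Fintype.card F ^ 2 + 1) / 2 ∧
    orderOf z = (Fintype.card F ^ 2 + 1) / 2 ∧
    (∀ φ : PSp 2 F ≃* PSp 2 F, φ x ≠ y) ∧ (∀ φ : PSp 2 F ≃* PSp 2 F, φ x ≠ z) ∧
    (∀ φ : PSp 2 F ≃* PSp 2 F, φ y ≠ z) := by
  obtain ⟨p, hpc⟩ := CharP.exists F
  obtain ⟨n, hp, hn⟩ := FiniteField.card F p
  have hpf := Fact.mk hp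
  obtain ⟨r, x, hx, hr, hr2, hrx⟩ := exists_big h5
  rw [Cfsg.Agent.H374.Quad.gcd_of_odd hodd] at hx
  have h2F := two_ne_zero_of_odd hodd
  have hp2 : p ≠ 2 := by
    rintro rfl
    exact h2F (by exact_mod_cast CharP.cast_eq_zero F 2)
  have hpo := hp.odd_of_ne_two hp2
  have hp3 : 3 ≤ p := by have := hp.two_le; omega
  obtain ⟨N, hN⟩ : ∃ N, Fintype.card F ^ 2 + 1 = 2 * N := (hodd.pow.add_one : Even (Fintype.card F ^ 2 + 1)).two_dvd
  have hNd : (Fintype.card F ^ 2 + 1) / 2 = N := by omega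
  have hNp : 2 * N = p ^ (2 * (n : ℕ)) + 1 := by rw [← hN, hn, ← pow_mul, mul_comm]
  have h25 : 5 * 5 ≤ Fintype.card F ^ 2 := by rw [sq]; exact Nat.mul_le_mul h5 h5
  have hN13 : 13 ≤ N := by omega
  have hNo : ¬ 2 ∣ N := by
    obtain ⟨a, ha⟩ := hodd
    rintro ⟨b, rfl⟩
    rw [ha] at hN
    have : (2 * a + 1) ^ 2 + 1 = 4 * (a ^ 2 + a) + 2 := by ring
    omega
  rw [hNd] at hx ⊢
  have hcop : Nat.Coprime N 2 := ((Nat.Prime.coprime_iff_not_dvd Nat.prime_two).2 hNo).symm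
  have hcop4 : Nat.Coprime N 4 := by
    rw [show 4 = 2 ^ 2 by norm_num]
    exact hcop.pow_right 2
  have hm : ∀ (i j : ℕ) (φ : PSp 2 F ≃* PSp 2 F), φ (x ^ i) = x ^ j → ∃ k, i * p ^ k ≡ j [MOD N] := by
    intro i j φ h
    rw [← hx]
    exact modEq_of_psi (by norm_num) hr hr2 hrx (ψ := φ) (by rw [range_top le_rfl (Or.inr h2F)]; trivial) h
  refine ⟨x, x ^ 2, x ^ 4, hx, ?_, ?_, fun φ h => ?_, fun φ h => ?_, fun φ h => ?_⟩
  · rw [Nat.Coprime.orderOf_pow (by rwa [hx]), hx]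
  · rw [Nat.Coprime.orderOf_pow (by rwa [hx]), hx]
  · obtain ⟨k, hk⟩ := hm 1 2 φ (by rwa [pow_one])
    rw [one_mul] at hk
    exact Num.odd_case hp3 hpo n.pos hNp hN13 (Or.inl rfl) hk
  · obtain ⟨k, hk⟩ := hm 1 4 φ (by rwa [pow_one])
    rw [one_mul] at hk
    exact Num.odd_case hp3 hpo n.pos hNp hN13 (Or.inr rfl) hk
  · obtain ⟨k, hk⟩ := hm 2 4 φ h
    refine Num.odd_case (k := k) hp3 hpo n.pos hNp hN13 (Or.inl rfl) ?_
    exact Nat.ModEq.cancel_left_of_coprime hcop hk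

/-- **`q` even**: elements `x`, `x ^ 3`, `x ^ 5`. -/
theorem three_even (h8 : 8 ≤ Fintype.card F) (heven : Even (Fintype.card F)) : ∃ x : PSp 2 F,
    orderOf x = Fintype.card F ^ 2 + 1 ∧
    (∀ φ : PSp 2 F ≃* PSp 2 F, φ x ≠ x ^ 3) ∧ (∀ φ : PSp 2 F ≃* PSp 2 F, φ x ≠ x ^ 5) ∧
    (∀ φ : PSp 2 F ≃* PSp 2 F, φ (x ^ 3) ≠ x ^ 5) := by
  obtain ⟨p, hpc⟩ := CharP.exists F
  obtain ⟨n, hp, hn⟩ := FiniteField.card F p
  have hpf := Fact.mk hp
  obtain ⟨r, x, hx, hr, hr2, hrx⟩ := exists_big (F := F) (by omega)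
  rw [Cfsg.Agent.H374.Quad.gcd_of_even heven (by omega), Nat.div_one] at hx
  have hp2 : p = 2 := by
    rw [hn] at heven
    exact (hp.even_iff).1 (Nat.even_pow.1 heven).1
  subst hp2
  have hn3 : 3 ≤ (n : ℕ) := by
    by_contra hcon
    have h1 : (n : ℕ) ≤ 2 := by omega
    have h2 : 2 ^ (n : ℕ) ≤ 2 ^ 2 := Nat.pow_le_pow_right (by norm_num) h1
    omega
  have hNp : orderOf x = 2 ^ (2 * (n : ℕ)) + 1 := by rw [hx, hn, ← pow_mul, mul_comm]
  have hm : ∀ (i j : ℕ) (φ : PSp 2 F ≃* PSp 2 F), φ (x ^ i) = x ^ j → ∃ k, (i * i) * 2 ^ k ≡ j * j [MOD orderOf x] := by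
    intro i j φ h
    refine modEq_of_psi (ψ := (φ : MulAut (PSp 2 F)) * φ) (by norm_num) hr hr2 hrx
      (sq_mem le_rfl (fun _ => by omega) φ) ?_
    rw [MulAut.mul_apply, pow_mul, map_pow, h, ← pow_mul, mul_comm j i, pow_mul, map_pow, h, ← pow_mul]
  refine ⟨x, hx, fun φ h => ?_, fun φ h => ?_, fun φ h => ?_⟩
  · obtain ⟨k, hk⟩ := hm 1 3 φ (by rwa [pow_one])
    exact Num.even_case hn3 hNp (Or.inl ⟨rfl, rfl⟩) hk
  · obtain ⟨k, hk⟩ := hm 1 5 φ (by rwa [pow_one])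
    exact Num.even_case hn3 hNp (Or.inr (Or.inl ⟨rfl, rfl⟩)) hk
  · obtain ⟨k, hk⟩ := hm 3 5 φ h
    exact Num.even_case hn3 hNp (Or.inr (Or.inr ⟨rfl, rfl⟩)) hk

/-- **Three classes.** -/
theorem not_SCC_big (h5 : 5 ≤ Fintype.card F) {v : ℕ} (hv : v.Prime) (hv2 : v ≠ 2) (hd : v ∣ Fintype.card F ^ 2 + 1) :
    ¬ SCC (PSp 2 F) v := by
  rcases Nat.even_or_odd (Fintype.card F) with he | ho
  · have h8 : 8 ≤ Fintype.card F := by
      obtain ⟨p, hpc⟩ := CharP.exists F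
      obtain ⟨n, hp, hn⟩ := FiniteField.card F p
      have hp2 : p = 2 := by
        rw [hn] at he
        exact (hp.even_iff).1 (Nat.even_pow.1 he).1
      subst hp2
      rw [hn] at h5 ⊢
      have hn3 : 3 ≤ (n : ℕ) := by
        by_contra hcon
        have h1 : (n : ℕ) ≤ 2 := by omega
        have h2 : 2 ^ (n : ℕ) ≤ 2 ^ 2 := Nat.pow_le_pow_right (by norm_num) h1
        omega
      calc 8 = 2 ^ 3 := by norm_num
        _ ≤ 2 ^ (n : ℕ) := Nat.pow_le_pow_right (by norm_num) hn3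
    obtain ⟨x, hx, h1, h2, h3⟩ := three_even h8 he
    have h64 : 8 * 8 ≤ Fintype.card F ^ 2 := by rw [sq]; exact Nat.mul_le_mul h8 h8
    have hd' : v ∣ orderOf x := by rwa [hx]
    have h3N : ¬ 3 ∣ orderOf x := by
      rw [hx]
      have h5 : Fintype.card F ^ 2 % 3 = (Fintype.card F % 3) ^ 2 % 3 := Nat.pow_mod _ _ _
      have h6 : Fintype.card F % 3 < 3 := Nat.mod_lt _ (by norm_num)
      interval_cases h7 : Fintype.card F % 3 <;> omega
    have ho3 : orderOf (x ^ 3) = orderOf x :=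
      Nat.Coprime.orderOf_pow ((Nat.Prime.coprime_iff_not_dvd Nat.prime_three).2 h3N).symm
    by_cases hv5 : v = 5
    · subst hv5
      obtain ⟨c, hc⟩ := hd'
      have hc0 : c ≠ 0 := by
        rintro rfl
        rw [hx] at hc
        omega
      have h5' : orderOf (x ^ c) = 5 := by
        rw [orderOf_pow_of_dvd hc0 ⟨5, by rw [hc, mul_comm]⟩, hc, Nat.mul_div_cancel _ (Nat.pos_of_ne_zero hc0)]
      have hne : orderOf x ≠ 5 := by rw [hx]; omega
      refine not_SCC_of_three (x := x) (y := x ^ 3) (z := x ^ c) ⟨c, hc⟩ (by rw [ho3]; exact ⟨c, hc⟩) (by rw [h5']) h1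
        (fun φ h => ?_) (fun φ h => ?_)
      · apply hne
        rw [← h5', ← h, MulEquiv.orderOf_eq]
      · apply hne
        rw [← h5', ← h, MulEquiv.orderOf_eq, ho3]
    · refine not_SCC_of_three (x := x) (y := x ^ 3) (z := x ^ 5) hd' (by rw [ho3]; exact hd') ?_ h1 h2 h3
      rw [orderOf_pow]
      have h4 : orderOf x = Nat.gcd (orderOf x) 5 * (orderOf x / Nat.gcd (orderOf x) 5) :=
        (Nat.mul_div_cancel' (Nat.gcd_dvd_left _ _)).symm
      rw [h4] at hd'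
      rcases hv.dvd_mul.1 hd' with h | h
      · have := (Nat.prime_dvd_prime_iff_eq hv (by norm_num)).1 (h.trans (Nat.gcd_dvd_right _ _))
        exact absurd this hv5
      · exact h
  · obtain ⟨x, y, z, hx, hy, hz, h1, h2, h3⟩ := three_odd h5 ho
    have hd' : v ∣ (Fintype.card F ^ 2 + 1) / 2 := by
      obtain ⟨N, hN⟩ : ∃ N, Fintype.card F ^ 2 + 1 = 2 * N := (ho.pow.add_one : Even (Fintype.card F ^ 2 + 1)).two_dvd
      rw [hN] at hd ⊢
      rw [Nat.mul_div_cancel_left _ (by norm_num)]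
      rcases hv.dvd_mul.1 hd with h | h
      · exact absurd ((Nat.prime_dvd_prime_iff_eq hv Nat.prime_two).1 h) hv2
      · exact h
    exact not_SCC_of_three (by rwa [hx]) (by rwa [hy]) (by rwa [hz]) h1 h2 h3

end Cfsg.Agent.H580.Der.PspCls
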