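import Cfsg.Agent.H580.Der.Eig
import Cfsg.Agent.H262.ElSympPSp
import Cfsg.Agent.ClassicalGeometry.AutPSpCount

/-!
# Automorphisms of `PSp_2m(q)` and powers of an element of order divisible by a primitive prime divisor (helper580)
-/

set_option autoImplicit false

namespace Cfsg.Agent.H580.Der.PspPow

open Cfsg Cfsg.Geo Matrix
open Cfsg.Agent.H262.El Cfsg.Agent.H876 Cfsg.Agent.H931
open Cfsg.Agent.ClassicalGeometry.SympBasic Cfsg.Agent.ClassicalGeometry.SympAutSemi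
open scoped MatrixGroups

variable {F : Type*} [Field F] [Fintype F] {m : ℕ}

/-- the class in `PSp`. -/
abbrev mk (A : Matrix.symplecticGroup (Fin m) F) : PSp m F := QuotientGroup.mk A

theorem mk_eq_one_iff {A : Matrix.symplecticGroup (Fin m) F} : mk A = 1 ↔ ∃ a : F, A.1 = a • 1 := by
  rw [mk, QuotientGroup.eq_one_iff]
  exact LieClassical.SympCenter.mem_center_iff m A

theorem sq_of_scalar (hm : 1 ≤ m) {A : Matrix.symplecticGroup (Fin m) F} {a : F} (hA : A.1 = a • 1) : A ^ 2 = 1 := by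
  have h1 : a ^ 2 = 1 := by
    have h2 := sympForm_rho A (Pi.single (Sum.inr ⟨0, hm⟩) 1) (Pi.single (Sum.inl ⟨0, hm⟩) 1)
    rw [rho_apply, rho_apply, hA, Matrix.smul_mulVec, Matrix.smul_mulVec, Matrix.one_mulVec, Matrix.one_mulVec,
      sympForm_smul_left, sympForm_smul_right, sympForm_single_inr_left, Pi.single_eq_same] at h2
    rw [sq]
    simpa using h2
  apply Subtype.ext
  show A.1 ^ 2 = 1
  rw [hA, _root_.smul_pow, h1, one_pow, one_smul]

/-- elements of order divisible by a primitive prime divisor act irreducibly. -/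
theorem irr_of_dvd (hm : 1 ≤ m) {r : ℕ} (hr : Od (Fintype.card F) (2 * m) r) (hr2 : r ≠ 2)
    {A : Matrix.symplecticGroup (Fin m) F} (hd : r ∣ orderOf (mk A)) (h0 : orderOf (mk A) ≠ 0)
    (W : Submodule F (Fin m ⊕ Fin m → F)) (hW : ∀ v ∈ W, A.1 *ᵥ v ∈ W) : W = ⊥ ∨ W = ⊤ := by
  obtain ⟨c, hc⟩ := hd
  have hc0 : c ≠ 0 := by
    rintro rfl
    rw [mul_zero] at hc
    exact h0 hc
  have h1 : orderOf (mk (A ^ c)) = r := by
    have : mk (A ^ c) = mk A ^ c := rfl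
    rw [this, orderOf_pow_of_dvd hc0 ⟨r, by rw [hc, mul_comm]⟩, hc, Nat.mul_div_cancel _ (Nat.pos_of_ne_zero hc0)]
  have h2 : mk ((A ^ c) ^ r) = 1 := by
    have : mk ((A ^ c) ^ r) = mk (A ^ c) ^ r := rfl
    rw [this, ← h1, pow_orderOf_eq_one]
  obtain ⟨a, ha⟩ := mk_eq_one_iff.1 h2
  have h3 := sq_of_scalar hm ha
  set y : GL (Fin m ⊕ Fin m) F := spToGL m F ((A ^ c) ^ 2) with hy
  have hyr : y ^ r = 1 := by
    rw [hy, ← map_pow, ← pow_mul, mul_comm 2 r, pow_mul, h3, map_one]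
  have hy1 : y ≠ 1 := by
    intro h
    have h4 : (A ^ c) ^ 2 = 1 := spToGL_injective (by rw [← hy, h, map_one])
    have h5 : mk (A ^ c) ^ 2 = 1 := by
      have : mk (A ^ c) ^ 2 = mk ((A ^ c) ^ 2) := rfl
      rw [this, h4]
      rfl
    have h6 := orderOf_dvd_of_pow_eq_one h5
    rw [h1] at h6
    exact hr2 ((Nat.prime_dvd_prime_iff_eq hr.prime Nat.prime_two).1 h6)
  have hι : Fintype.card (Fin m ⊕ Fin m) = 2 * m := Cfsg.Agent.H931.card_sum_fin
  refine irr_of_od (by rw [hι]; exact hr) hyr hy1 W fun v hv => ?_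
  have key : ∀ n : ℕ, ∀ v ∈ W, (A ^ n).1 *ᵥ v ∈ W := by
    intro n
    induction n with
    | zero => intro v hv; simpa using hv
    | succ n ih =>
      intro v hv
      rw [pow_succ]
      show ((A ^ n).1 * A.1) *ᵥ v ∈ W
      rw [← Matrix.mulVec_mulVec]
      exact ih _ (hW v hv)
  have h7 := key (c * 2) v hv
  rw [pow_mul] at h7
  exact h7

/-- **Semilinear automorphisms and powers.** -/
theorem pow_of_psi (hm : 1 ≤ m) {p : ℕ} [Fact p.Prime] [CharP F p] {A : Matrix.symplecticGroup (Fin m) F}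
    (hirr : ∀ W : Submodule F (Fin m ⊕ Fin m → F), (∀ v ∈ W, A.1 *ᵥ v ∈ W) → W = ⊥ ∨ W = ⊤)
    {ψ : MulAut (PSp m F)} (hψ : ψ ∈ (Psi m F).range) {i j : ℕ} (h : ψ (mk A ^ i) = mk A ^ j) :
    ∃ k : ℕ, mk A ^ j = mk A ^ (i * p ^ k) := by
  obtain ⟨g, rfl⟩ := hψ
  obtain ⟨φ, l, hl, hs⟩ := g.2
  have h1 : mk (conjHom m F g (A ^ i)) = mk (A ^ j) := h
  have h2 : mk ((conjHom m F g (A ^ i)) * (A ^ j)⁻¹) = 1 := by
    have : mk ((conjHom m F g (A ^ i)) * (A ^ j)⁻¹) = mk (conjHom m F g (A ^ i)) * (mk (A ^ j))⁻¹ := rfl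
    rw [this, h1, mul_inv_cancel]
  obtain ⟨ε, hε⟩ := mk_eq_one_iff.1 h2
  have h3 : (conjHom m F g (A ^ i)).1 = ε • A.1 ^ j := by
    have h4 : conjHom m F g (A ^ i) = ((conjHom m F g (A ^ i)) * (A ^ j)⁻¹) * A ^ j := by group
    rw [h4]
    show (((conjHom m F g (A ^ i)) * (A ^ j)⁻¹ : Matrix.symplecticGroup (Fin m) F)).1 * (A ^ j).1 = _
    rw [hε, Matrix.smul_mul, one_mul]
    rfl
  have hne : Nonempty (Fin m ⊕ Fin m) := ⟨Sum.inl ⟨0, hm⟩⟩
  obtain ⟨k, hk⟩ := Eig.pow_of_semi (A := A.1) hirr (g := g.1) (σ := φ) hs.1 hs.2.1 (i := i) (j := j) (ε := ε) (p := p)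
    (fun v => by
      have h5 := congrArg (fun e : Equiv.Perm (Fin m ⊕ Fin m → F) => e (g.1 v)) (rho_conjHom g (A ^ i))
      simp only [Equiv.Perm.mul_apply] at h5
      rw [rho_apply, h3] at h5
      rw [h5]
      congr 1
      rw [perm_inv_apply_self]
      rfl)
  refine ⟨k, ?_⟩
  have h6 : conjHom m F g (A ^ i) = A ^ (i * p ^ k) := by
    apply Subtype.ext
    rw [h3, hk, pow_mul]
    rfl
  have h7 : mk (A ^ j) = mk (A ^ (i * p ^ k)) := by rw [← h1, h6]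
  exact h7

end Cfsg.Agent.H580.Der.PspPow
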